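import Mathlib

/-!
The special orthogonal group in dimension three inside `PGL_2`.
-/

set_option autoImplicit false
set_option linter.unusedSectionVars false
set_option linter.unusedSimpArgs false

namespace H19.So3

open Matrix

variable {F : Type*} [Field F]

/-- the three basis matrices -/
def bI : Matrix (Fin 2) (Fin 2) F := !![0, 1; -1, 0]
def bJ (al be : F) : Matrix (Fin 2) (Fin 2) F := !![al, be; be, -al]
def bL (al be : F) : Matrix (Fin 2) (Fin 2) F := !![be, -al; -al, -be]

/-- trace zero matrices -/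
def Q (al be : F) (x : Fin 3 → F) : Matrix (Fin 2) (Fin 2) F := x 0 • bI + x 1 • bJ al be + x 2 • bL al be

lemma Q_eq (al be : F) (x : Fin 3 → F) : Q al be x =
    !![x 1 * al + x 2 * be, x 0 + x 1 * be - x 2 * al; - x 0 + x 1 * be - x 2 * al, - (x 1 * al) - x 2 * be] := by
  ext i j
  fin_cases i <;> fin_cases j <;> simp [Q, bI, bJ, bL] <;> ring

variable {al be : F}

/-- products -/
lemma Q_mul (hab : al * al + be * be = -1) (x y : Fin 3 → F) :
    Q al be x * Q al be y = (-(x 0 * y 0 + x 1 * y 1 + x 2 * y 2)) • (1 : Matrix (Fin 2) (Fin 2) F) +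
      Q al be ![x 1 * y 2 - x 2 * y 1, x 2 * y 0 - x 0 * y 2, x 0 * y 1 - x 1 * y 0] := by
  rw [Q_eq, Q_eq, Q_eq]
  ext i j
  fin_cases i <;> fin_cases j <;> simp [Matrix.mul_apply, Fin.sum_univ_two]
  · linear_combination (x 1 * y 1 + x 2 * y 2) * hab
  · linear_combination (-(x 1 * y 2) + x 2 * y 1) * hab
  · linear_combination (x 1 * y 2 - x 2 * y 1) * hab
  · linear_combination (x 1 * y 1 + x 2 * y 2) * hab

lemma Q_add (x y : Fin 3 → F) : Q al be (x + y) = Q al be x + Q al be y := by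
  simp only [Q, Pi.add_apply]; module

lemma Q_smul (c : F) (x : Fin 3 → F) : Q al be (c • x) = c • Q al be x := by
  simp only [Q, Pi.smul_apply, smul_eq_mul]; module

lemma Q_inj (hab : al * al + be * be = -1) (h2 : (2 : F) ≠ 0) {x y : Fin 3 → F} (h : Q al be x = Q al be y) : x = y := by
  rw [Q_eq, Q_eq] at h
  have h00 := congrFun (congrFun h 0) 0
  have h01 := congrFun (congrFun h 0) 1
  have h10 := congrFun (congrFun h 1) 0
  simp at h00 h01 h10
  have e0 : x 0 = y 0 := by
    have : (2 : F) * (x 0 - y 0) = 0 := by linear_combination h01 - h10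
    exact sub_eq_zero.mp ((mul_eq_zero.mp this).resolve_left h2)
  have e1 : x 1 = y 1 := by
    have : (2 : F) * (x 1 - y 1) = 0 := by
      linear_combination (-2 * al) * h00 - be * (h01 + h10) + 2 * (x 1 - y 1) * hab
    exact sub_eq_zero.mp ((mul_eq_zero.mp this).resolve_left h2)
  have e2 : x 2 = y 2 := by
    have : (2 : F) * (x 2 - y 2) = 0 := by
      linear_combination (-2 * be) * h00 + al * (h01 + h10) + 2 * (x 2 - y 2) * hab
    exact sub_eq_zero.mp ((mul_eq_zero.mp this).resolve_left h2)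
  funext i
  fin_cases i
  · exact e0
  · exact e1
  · exact e2

/-- matrices commuting with everything of the form `Q x` are scalars -/
lemma scalar_of_comm (hab : al * al + be * be = -1) (h2 : (2 : F) ≠ 0) {a : Matrix (Fin 2) (Fin 2) F}
    (h : ∀ x, a * Q al be x = Q al be x * a) : ∃ c : F, a = c • (1 : Matrix (Fin 2) (Fin 2) F) := by
  have hI := h ![1, 0, 0]
  have hJ := h ![0, 1, 0]
  have hL := h ![0, 0, 1]
  rw [Q_eq] at hI hJ hL
  have i00 := congrFun (congrFun hI 0) 0
  have i01 := congrFun (congrFun hI 0) 1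
  have j01 := congrFun (congrFun hJ 0) 1
  have l01 := congrFun (congrFun hL 0) 1
  simp [Matrix.mul_apply, Fin.sum_univ_two] at i00 i01 j01 l01
  -- a 0 1 = - a 1 0, a 0 0 = a 1 1
  have e2 : a 0 1 = 0 := by
    have k1 : (2 : F) * (al * a 0 1) = 0 := by linear_combination -j01 + be * i01
    have k2 : (2 : F) * (be * a 0 1) = 0 := by linear_combination -l01 - al * i01
    have k1' := (mul_eq_zero.mp k1).resolve_left h2
    have k2' := (mul_eq_zero.mp k2).resolve_left h2
    linear_combination (-al) * k1' - be * k2' + a 0 1 * hab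
  have e1 : a 1 0 = 0 := by linear_combination -i00 - e2
  refine ⟨a 0 0, ?_⟩
  ext i j
  fin_cases i <;> fin_cases j <;> simp [e1, e2]
  exact i01.symm

/-- Skolem-Noether by hand -/
theorem exists_conj (hab : al * al + be * be = -1) (h2 : (2 : F) ≠ 0) {M : Matrix (Fin 3) (Fin 3) F}
    (ho : Mᵀ * M = 1) (hd : M.det = 1) : ∃ a : GL (Fin 2) F, ∀ x, (a : Matrix (Fin 2) (Fin 2) F) * Q al be x = Q al be (M *ᵥ x) * a := by
  set I : Matrix (Fin 2) (Fin 2) F := Q al be ![1, 0, 0] with hI
  set J : Matrix (Fin 2) (Fin 2) F := Q al be ![0, 1, 0] with hJ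
  set L : Matrix (Fin 2) (Fin 2) F := Q al be ![0, 0, 1] with hL
  set X : Matrix (Fin 2) (Fin 2) F := Q al be (M *ᵥ ![1, 0, 0]) with hX
  set Y : Matrix (Fin 2) (Fin 2) F := Q al be (M *ᵥ ![0, 1, 0]) with hY
  set Z : Matrix (Fin 2) (Fin 2) F := Q al be (M *ᵥ ![0, 0, 1]) with hZ
  have Q0 : Q al be ![0, 0, 0] = 0 := by
    simp [Q]
  -- relations
  have II : I * I = -1 := by rw [hI, Q_mul hab]; simp [Q0]
  have JJ : J * J = -1 := by rw [hJ, Q_mul hab]; simp [Q0]
  have LL : L * L = -1 := by rw [hL, Q_mul hab]; simp [Q0]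
  have IJ : I * J = L := by rw [hI, hJ, hL, Q_mul hab]; simp
  have JL : J * L = I := by rw [hI, hJ, hL, Q_mul hab]; simp
  have LI : L * I = J := by rw [hI, hJ, hL, Q_mul hab]; simp
  have JI : J * I = -L := by
    rw [hI, hJ, hL, Q_mul hab, ← neg_one_smul F (Q al be ![0, 0, 1]), ← Q_smul]; simp
  have LJ : L * J = -I := by
    rw [hI, hJ, hL, Q_mul hab, ← neg_one_smul F (Q al be ![1, 0, 0]), ← Q_smul]; simp
  have IL : I * L = -J := by
    rw [hI, hJ, hL, Q_mul hab, ← neg_one_smul F (Q al be ![0, 1, 0]), ← Q_smul]; simp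
  -- columns
  have hc : ∀ i j, ∑ r, M r i * M r j = (1 : Matrix (Fin 3) (Fin 3) F) i j := by
    intro i j
    rw [← ho, Matrix.mul_apply]
    rfl
  have hadj : M.adjugate = Mᵀ := by
    have h1 : M.adjugate * M = 1 := by rw [Matrix.adjugate_mul, hd, one_smul]
    have h3 : M * M.adjugate = 1 := by rw [Matrix.mul_adjugate, hd, one_smul]
    calc M.adjugate = (Mᵀ * M) * M.adjugate := by rw [ho, one_mul]
      _ = Mᵀ := by rw [Matrix.mul_assoc, h3, mul_one]
  have c0 : M *ᵥ ![1, 0, 0] = ![M 0 0, M 1 0, M 2 0] := by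
    ext i; fin_cases i <;> simp [Matrix.mulVec, dotProduct, Fin.sum_univ_three]
  have c1 : M *ᵥ ![0, 1, 0] = ![M 0 1, M 1 1, M 2 1] := by
    ext i; fin_cases i <;> simp [Matrix.mulVec, dotProduct, Fin.sum_univ_three]
  have c2 : M *ᵥ ![0, 0, 1] = ![M 0 2, M 1 2, M 2 2] := by
    ext i; fin_cases i <;> simp [Matrix.mulVec, dotProduct, Fin.sum_univ_three]
  have hc00 := hc 0 0
  have hc11 := hc 1 1
  have hc22 := hc 2 2
  have hc01 := hc 0 1
  have hc02 := hc 0 2
  have hc12 := hc 1 2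
  simp [Fin.sum_univ_three] at hc00 hc11 hc22 hc01 hc02 hc12
  have ha : ∀ i j, M.adjugate i j = M j i := fun i j => by rw [hadj]; rfl
  rw [Matrix.adjugate_fin_three] at ha
  have XX : X * X = -1 := by
    rw [hX, c0, Q_mul hab]
    have : ![(![M 0 0, M 1 0, M 2 0] : Fin 3 → F) 1 * (![M 0 0, M 1 0, M 2 0] : Fin 3 → F) 2 - (![M 0 0, M 1 0, M 2 0] : Fin 3 → F) 2 * (![M 0 0, M 1 0, M 2 0] : Fin 3 → F) 1,
      (![M 0 0, M 1 0, M 2 0] : Fin 3 → F) 2 * (![M 0 0, M 1 0, M 2 0] : Fin 3 → F) 0 - (![M 0 0, M 1 0, M 2 0] : Fin 3 → F) 0 * (![M 0 0, M 1 0, M 2 0] : Fin 3 → F) 2,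
      (![M 0 0, M 1 0, M 2 0] : Fin 3 → F) 0 * (![M 0 0, M 1 0, M 2 0] : Fin 3 → F) 1 - (![M 0 0, M 1 0, M 2 0] : Fin 3 → F) 1 * (![M 0 0, M 1 0, M 2 0] : Fin 3 → F) 0] = (![0, 0, 0] : Fin 3 → F) := by
      ext i; fin_cases i <;> simp <;> ring
    rw [this, Q0, add_zero]
    simp only [Matrix.cons_val_zero, Matrix.cons_val_one, Matrix.cons_val]
    rw [hc00, neg_smul, one_smul]
  have XY : X * Y = Z := by
    rw [hX, hY, hZ, c0, c1, c2, Q_mul hab]
    simp only [Matrix.cons_val_zero, Matrix.cons_val_one, Matrix.cons_val]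
    rw [hc01, neg_zero, zero_smul, zero_add]
    congr 1
    have a20 := ha 2 0
    have a21 := ha 2 1
    have a22 := ha 2 2
    simp at a20 a21 a22
    ext i; fin_cases i <;> simp
    · linear_combination a20
    · linear_combination a21
    · linear_combination a22
  have YY : Y * Y = -1 := by
    rw [hY, c1, Q_mul hab]
    have : ![(![M 0 1, M 1 1, M 2 1] : Fin 3 → F) 1 * (![M 0 1, M 1 1, M 2 1] : Fin 3 → F) 2 - (![M 0 1, M 1 1, M 2 1] : Fin 3 → F) 2 * (![M 0 1, M 1 1, M 2 1] : Fin 3 → F) 1,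
      (![M 0 1, M 1 1, M 2 1] : Fin 3 → F) 2 * (![M 0 1, M 1 1, M 2 1] : Fin 3 → F) 0 - (![M 0 1, M 1 1, M 2 1] : Fin 3 → F) 0 * (![M 0 1, M 1 1, M 2 1] : Fin 3 → F) 2,
      (![M 0 1, M 1 1, M 2 1] : Fin 3 → F) 0 * (![M 0 1, M 1 1, M 2 1] : Fin 3 → F) 1 - (![M 0 1, M 1 1, M 2 1] : Fin 3 → F) 1 * (![M 0 1, M 1 1, M 2 1] : Fin 3 → F) 0] = (![0, 0, 0] : Fin 3 → F) := by
      ext i; fin_cases i <;> simp <;> ring
    rw [this, Q0, add_zero]
    simp only [Matrix.cons_val_zero, Matrix.cons_val_one, Matrix.cons_val]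
    rw [hc11, neg_smul, one_smul]
  have YX : Y * X = -Z := by
    rw [hX, hY, hZ, c0, c1, c2, Q_mul hab, ← neg_one_smul F (Q al be ![M 0 2, M 1 2, M 2 2]), ← Q_smul]
    simp only [Matrix.cons_val_zero, Matrix.cons_val_one, Matrix.cons_val]
    have : -(M 0 1 * M 0 0 + M 1 1 * M 1 0 + M 2 1 * M 2 0) = 0 := by linear_combination -hc01
    rw [this, zero_smul, zero_add]
    congr 1
    have a20 := ha 2 0
    have a21 := ha 2 1
    have a22 := ha 2 2
    simp at a20 a21 a22
    ext i; fin_cases i <;> simp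
    · linear_combination -a20
    · linear_combination -a21
    · linear_combination -a22
  -- further relations
  have XZ : X * Z = -Y := by rw [← XY, ← Matrix.mul_assoc, XX, neg_mul, one_mul]
  have YZ : Y * Z = X := by
    have : Z = -(Y * X) := by rw [YX, neg_neg]
    rw [this, mul_neg, ← Matrix.mul_assoc, YY, neg_mul, one_mul, neg_neg]
  -- the intertwiner
  let A : Matrix (Fin 2) (Fin 2) F → Matrix (Fin 2) (Fin 2) F := fun x => x - X * x * I - Y * x * J - Z * x * L
  have hAI : ∀ x, A x * I = X * A x := by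
    intro x
    simp only [A, sub_mul, mul_sub]
    have e1 : X * x * I * I = -(X * x) := by rw [Matrix.mul_assoc (X * x), II, mul_neg, mul_one]
    have e2 : Y * x * J * I = -(Y * x * L) := by rw [Matrix.mul_assoc (Y * x), JI, mul_neg]
    have e3 : Z * x * L * I = Z * x * J := by rw [Matrix.mul_assoc (Z * x), LI]
    have e4 : X * (X * x * I) = -(x * I) := by
      rw [Matrix.mul_assoc X x I, ← Matrix.mul_assoc X X, XX, neg_mul, one_mul]
    have e5 : X * (Y * x * J) = Z * x * J := by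
      rw [Matrix.mul_assoc Y x J, ← Matrix.mul_assoc X Y, XY, Matrix.mul_assoc]
    have e6 : X * (Z * x * L) = -(Y * x * L) := by
      rw [Matrix.mul_assoc Z x L, ← Matrix.mul_assoc X Z, XZ, neg_mul, Matrix.mul_assoc]
    rw [e1, e2, e3, e4, e5, e6]
    abel
  have hAJ : ∀ x, A x * J = Y * A x := by
    intro x
    simp only [A, sub_mul, mul_sub]
    have e1 : X * x * I * J = X * x * L := by rw [Matrix.mul_assoc (X * x), IJ]
    have e2 : Y * x * J * J = -(Y * x) := by rw [Matrix.mul_assoc (Y * x), JJ, mul_neg, mul_one]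
    have e3 : Z * x * L * J = -(Z * x * I) := by rw [Matrix.mul_assoc (Z * x), LJ, mul_neg]
    have e4 : Y * (X * x * I) = -(Z * x * I) := by
      rw [Matrix.mul_assoc X x I, ← Matrix.mul_assoc Y X, YX, neg_mul, Matrix.mul_assoc]
    have e5 : Y * (Y * x * J) = -(x * J) := by
      rw [Matrix.mul_assoc Y x J, ← Matrix.mul_assoc Y Y, YY, neg_mul, one_mul]
    have e6 : Y * (Z * x * L) = X * x * L := by
      rw [Matrix.mul_assoc Z x L, ← Matrix.mul_assoc Y Z, YZ, Matrix.mul_assoc]
    rw [e1, e2, e3, e4, e5, e6]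
    abel
  have h2' : ∀ B : Matrix (Fin 2) (Fin 2) F, B + B = 0 → B = 0 := by
    intro B hB
    have : (2 : F) • B = 0 := by rw [two_smul]; exact hB
    exact (smul_eq_zero.mp this).resolve_left h2
  have hL0 : L ≠ 0 := by
    intro h0
    rw [h0, mul_zero] at LL
    have := congrFun (congrFun LL 0) 0
    simp at this
  obtain ⟨x, hx⟩ : ∃ x, A x ≠ 0 := by
    by_contra hcon
    push Not at hcon
    have key : ∀ x, X * x = -(x * I) := by
      intro x
      have k1 := hcon (x * I)
      have k2 : A x * I = 0 := by rw [hcon x, zero_mul]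
      have k3 : A (x * I) + A x * I = (x * I + X * x) + (x * I + X * x) := by
        simp only [A, sub_mul]
        have e1 : X * x * I * I = -(X * x) := by rw [Matrix.mul_assoc (X * x), II, mul_neg, mul_one]
        have e2 : Y * x * J * I = -(Y * x * L) := by rw [Matrix.mul_assoc (Y * x), JI, mul_neg]
        have e3 : Z * x * L * I = Z * x * J := by rw [Matrix.mul_assoc (Z * x), LI]
        have f1 : X * (x * I) * I = -(X * x) := by rw [← Matrix.mul_assoc X x I]; exact e1
        have f2 : Y * (x * I) * J = Y * x * L := by rw [← Matrix.mul_assoc Y x I, Matrix.mul_assoc (Y * x), IJ]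
        have f3 : Z * (x * I) * L = -(Z * x * J) := by rw [← Matrix.mul_assoc Z x I, Matrix.mul_assoc (Z * x), IL, mul_neg]
        rw [e1, e2, e3, f1, f2, f3]
        abel
      rw [k1, k2, add_zero] at k3
      have k4 := h2' _ k3.symm
      rw [add_comm] at k4
      exact eq_neg_of_add_eq_zero_left k4
    have k1 := key 1
    rw [mul_one, one_mul] at k1
    have k2 := key J
    rw [k1, neg_mul, IJ, JI, neg_neg] at k2
    apply hL0
    apply h2'
    have k3 := neg_add_cancel L
    rwa [k2] at k3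
  have hdet : (A x).det ≠ 0 := by
    intro h0
    obtain ⟨v, hv, hAv⟩ := Matrix.exists_mulVec_eq_zero_iff.mpr h0
    have hker : ∀ u, A x *ᵥ u = 0 → A x *ᵥ (I *ᵥ u) = 0 ∧ A x *ᵥ (J *ᵥ u) = 0 := by
      intro u hu
      constructor
      · rw [Matrix.mulVec_mulVec, hAI, ← Matrix.mulVec_mulVec, hu, Matrix.mulVec_zero]
      · rw [Matrix.mulVec_mulVec, hAJ, ← Matrix.mulVec_mulVec, hu, Matrix.mulVec_zero]
    obtain ⟨hv1, hv2⟩ := hker v hAv
    -- the kernel is everything
    apply hx
    have hIv : I *ᵥ v = ![v 1, -v 0] := by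
      rw [hI, Q_eq]; ext i; fin_cases i <;> simp [Matrix.mulVec, dotProduct, Fin.sum_univ_two]
    have hJv : J *ᵥ v = ![al * v 0 + be * v 1, be * v 0 - al * v 1] := by
      rw [hJ, Q_eq]; ext i; fin_cases i <;> simp [Matrix.mulVec, dotProduct, Fin.sum_univ_two]
      ring
    rw [hIv] at hv1
    rw [hJv] at hv2
    have g1 := fun i => congrFun hAv i
    have g2 := fun i => congrFun hv1 i
    have g3 := fun i => congrFun hv2 i
    simp only [Matrix.mulVec, dotProduct, Fin.sum_univ_two, Matrix.cons_val_zero, Matrix.cons_val_one, Pi.zero_apply] at g1 g2 g3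
    -- rows: (p, r) with p v0 + r v1 = 0, p v1 - r v0 = 0, p (al v0 + be v1) + r (be v0 - al v1) = 0
    have row : ∀ i, A x i 0 = 0 ∧ A x i 1 = 0 := by
      intro i
      have a1 := g1 i
      have a2 := g2 i
      have a3 := g3 i
      by_cases hn : v 0 * v 0 + v 1 * v 1 = 0
      · -- isotropic: r v0 = p v1, p v0 = - r v1
        have b1 : A x i 0 * (v 0 * v 0 + v 1 * v 1) = 0 := by rw [hn, mul_zero]
        have hv01 : v 0 ≠ 0 := by
          intro h0
          apply hv
          rw [h0] at hn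
          have : v 1 = 0 := by
            have : v 1 * v 1 = 0 := by linear_combination hn
            exact mul_self_eq_zero.mp this
          funext j; fin_cases j
          · exact h0
          · exact this
        have b2 : (2 : F) * (A x i 0 * (v 0 * al + v 1 * be)) = 0 := by
          linear_combination a3 + al * a1 + be * a2
        have b3 : A x i 0 * (v 0 * al + v 1 * be) = 0 := (mul_eq_zero.mp b2).resolve_left h2
        have b4 : A x i 0 = 0 := by
          rcases mul_eq_zero.mp b3 with h | h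
          · exact h
          · exfalso
            have : (v 0 * v 0) * (al * al + be * be) = 0 := by
              linear_combination (v 0 * al - v 1 * be) * h + be * be * hn
            rw [hab] at this
            apply hv01
            have h' : v 0 * v 0 = 0 := by linear_combination -this
            exact mul_self_eq_zero.mp h'
        refine ⟨b4, ?_⟩
        rw [b4] at a2
        have : A x i 1 * v 0 = 0 := by linear_combination -a2
        exact (mul_eq_zero.mp this).resolve_right hv01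
      · have b1 : A x i 0 * (v 0 * v 0 + v 1 * v 1) = 0 := by linear_combination v 0 * a1 + v 1 * a2
        have b2 : A x i 1 * (v 0 * v 0 + v 1 * v 1) = 0 := by linear_combination v 1 * a1 - v 0 * a2
        exact ⟨(mul_eq_zero.mp b1).resolve_right hn, (mul_eq_zero.mp b2).resolve_right hn⟩
    ext i j
    fin_cases j
    · exact (row i).1
    · exact (row i).2
  refine ⟨Matrix.GeneralLinearGroup.mkOfDetNeZero (A x) hdet, ?_⟩
  intro y
  change A x * Q al be y = Q al be (M *ᵥ y) * A x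
  have hAL : A x * L = Z * A x := by
    rw [← IJ, ← Matrix.mul_assoc, hAI, Matrix.mul_assoc, hAJ, ← Matrix.mul_assoc, XY]
  have hy : y = y 0 • ![1, 0, 0] + y 1 • ![0, 1, 0] + y 2 • ![0, 0, 1] := by
    funext i; fin_cases i <;> simp
  rw [hy]
  simp only [Matrix.mulVec_add, Matrix.mulVec_smul, Q_add, Q_smul, mul_add, add_mul, Matrix.mul_smul, Matrix.smul_mul]
  rw [← hI, ← hJ, ← hL, ← hX, ← hY, ← hZ, hAI, hAJ, hAL]

/-- uniqueness up to scalars -/
lemma conj_unique (hab : al * al + be * be = -1) (h2 : (2 : F) ≠ 0) {M : Matrix (Fin 3) (Fin 3) F} {a b : GL (Fin 2) F}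
    (ha : ∀ x, (a : Matrix (Fin 2) (Fin 2) F) * Q al be x = Q al be (M *ᵥ x) * a)
    (hb : ∀ x, (b : Matrix (Fin 2) (Fin 2) F) * Q al be x = Q al be (M *ᵥ x) * b) :
    ProjGenLinGroup.mk a = ProjGenLinGroup.mk b := by
  have hb' : ∀ x, ((b⁻¹ : GL (Fin 2) F) : Matrix (Fin 2) (Fin 2) F) * Q al be (M *ᵥ x) = Q al be x * ((b⁻¹ : GL (Fin 2) F) : Matrix (Fin 2) (Fin 2) F) := by
    intro x
    calc ((b⁻¹ : GL (Fin 2) F) : Matrix (Fin 2) (Fin 2) F) * Q al be (M *ᵥ x)
        = ((b⁻¹ : GL (Fin 2) F) : Matrix (Fin 2) (Fin 2) F) * (Q al be (M *ᵥ x) * b) * ((b⁻¹ : GL (Fin 2) F) : Matrix (Fin 2) (Fin 2) F) := by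
          rw [Matrix.mul_assoc, Matrix.mul_assoc (Q al be (M *ᵥ x)), ← Units.val_mul, mul_inv_cancel, Units.val_one, mul_one]
      _ = _ := by rw [← hb, ← Matrix.mul_assoc, ← Units.val_mul, inv_mul_cancel, Units.val_one, one_mul]
  have hc : ∀ x, ((b⁻¹ * a : GL (Fin 2) F) : Matrix (Fin 2) (Fin 2) F) * Q al be x = Q al be x * ((b⁻¹ * a : GL (Fin 2) F) : Matrix (Fin 2) (Fin 2) F) := by
    intro x
    rw [Units.val_mul, Matrix.mul_assoc, ha, ← Matrix.mul_assoc, hb', Matrix.mul_assoc]
  obtain ⟨c, hc⟩ := scalar_of_comm hab h2 hc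
  have h1 : b⁻¹ * a ∈ Subgroup.center (GL (Fin 2) F) := by
    rw [Subgroup.mem_center_iff]
    intro g
    apply Units.ext
    rw [Units.val_mul g, Units.val_mul _ g, hc, Matrix.mul_smul, Matrix.smul_mul, mul_one, one_mul]
  rw [ProjGenLinGroup.mk_eq_mk_iff']
  exact ⟨(b⁻¹ * a)⁻¹, Subgroup.inv_mem _ h1, by group⟩

/-- **the special orthogonal group in dimension three maps injectively to `PGL_2`** -/
theorem main (h2 : (2 : F) ≠ 0) (hab : al * al + be * be = -1) {G : Type*} [Group G]
    (psi : G →* Matrix (Fin 3) (Fin 3) F) (hpsi : Function.Injective psi) (ho : ∀ g, (psi g)ᵀ * psi g = 1)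
    (hd : ∀ g, (psi g).det = 1) : ∃ sigma : G →* ProjGenLinGroup (Fin 2) F, Function.Injective sigma ∧
      ∀ (g : G) (a : GL (Fin 2) F), (sigma g = ProjGenLinGroup.mk a ↔
        ∀ x : Fin 3 → F, (a : Matrix (Fin 2) (Fin 2) F) * Q al be x = Q al be (psi g *ᵥ x) * a) := by
  choose A hA using fun g => exists_conj (al := al) (be := be) hab h2 (ho g) (hd g)
  have key : ∀ (g : G) (a : GL (Fin 2) F), (ProjGenLinGroup.mk (A g) = ProjGenLinGroup.mk a ↔
        ∀ x : Fin 3 → F, (a : Matrix (Fin 2) (Fin 2) F) * Q al be x = Q al be (psi g *ᵥ x) * a) := by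
    intro g a
    constructor
    · intro h x
      obtain ⟨u, hu⟩ := ProjGenLinGroup.mk_eq_mk_iff.mp h
      rw [← hu, Units.val_mul]
      have hs : ((GeneralLinearGroup.scalar (Fin 2) u : GL (Fin 2) F) : Matrix (Fin 2) (Fin 2) F) = (u : F) • (1 : Matrix (Fin 2) (Fin 2) F) := by
        ext i j; fin_cases i <;> fin_cases j <;> simp
      rw [hs, Matrix.mul_smul, mul_one, Matrix.smul_mul, Matrix.mul_smul, hA]
    · intro h
      exact conj_unique hab h2 (hA g) h
  refine ⟨MonoidHom.mk' (fun g => ProjGenLinGroup.mk (A g)) ?_, ?_, key⟩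
  · intro g h
    rw [← map_mul, key]
    intro x
    rw [Units.val_mul, Matrix.mul_assoc, hA, ← Matrix.mul_assoc, hA, Matrix.mul_assoc, map_mul, Matrix.mulVec_mulVec]
  · intro g h hgh
    have h1 : ProjGenLinGroup.mk (A g) = ProjGenLinGroup.mk (A h) := hgh
    rw [key] at h1
    apply hpsi
    apply Matrix.ext_of_mulVec_single
    intro i
    apply Q_inj (al := al) (be := be) hab h2
    have e1 := h1 (Pi.single i 1)
    rw [hA] at e1
    have e2 := congrArg (fun B => B * (((A h)⁻¹ : GL (Fin 2) F) : Matrix (Fin 2) (Fin 2) F)) e1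
    simp only [Matrix.mul_assoc] at e2
    rw [← Units.val_mul, mul_inv_cancel, Units.val_one, mul_one, mul_one] at e2
    exact e2.symm

end H19.So3
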