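import Cfsg.Agent.Lib.H19.CharExt
import Cfsg.Agent.Lib.H4.Monomial
import Cfsg.Agent.Lib.H82.Const

/-!
# Character lemmas for quasi-primitive characters
-/

set_option autoImplicit false
set_option linter.unusedSectionVars false
set_option linter.style.haveILetI false

namespace H19.Berger

open Cfsg H18.CharBasic H18.CharOrtho H18.CharInd H18.CharQuot
open scoped ComplexConjugate

universe u v

/-- An irreducible character is not a sum of two nonzero characters. -/
theorem irr_add {X : Type u} [Group X] [Finite X] {A B : X → ℂ} (hA : IsCharacter X A)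
    (hB : IsCharacter X B) (h : IsIrrCharacter X (A + B)) : A = 0 ∨ B = 0 := by
  classical
  letI := Fintype.ofFinite X
  have key : ∀ {A B : X → ℂ}, IsCharacter X A → IsCharacter X B →
      classInner A (A + B) = 0 → A = 0 := by
    intro A B hA hB h0
    rw [H18.CharOrtho.inner_add_right] at h0
    obtain ⟨m, hm⟩ := inner_char_natCast hA hA
    obtain ⟨n, hn⟩ := inner_char_natCast hA hB
    rw [hm, hn] at h0
    have h1 : m + n = 0 := by exact_mod_cast h0
    have h2 : m = 0 := by omega
    rw [h2, Nat.cast_zero] at hm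
    exact inner_self_eq_zero.1 hm
  have h1 := inner_irr_self h
  have hAB := isCharacter_of_isIrr h
  obtain ⟨m, hm⟩ := inner_char_natCast hA hAB
  obtain ⟨n, hn⟩ := inner_char_natCast hB hAB
  rw [H18.CharOrtho.inner_add_left, hm, hn] at h1
  have h2 : m + n = 1 := by exact_mod_cast h1
  rcases Nat.eq_zero_or_pos m with h3 | h3
  · left
    rw [h3, Nat.cast_zero] at hm
    exact key hA hB hm
  · right
    have h4 : n = 0 := by omega
    rw [h4, Nat.cast_zero, add_comm A B] at hn
    exact key hB hA hn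

theorem char_eq_zero {X : Type u} [Group X] {A : X → ℂ} (hA : IsCharacter X A) (h : A 1 = 0) :
    A = 0 := by
  obtain ⟨m, ρ, hρ⟩ := hA
  have h4 : (m : ℂ) = 0 := by
    rw [← h, ← hρ]
    simp
  have h5 : m = 0 := by exact_mod_cast h4
  subst h5
  funext g
  rw [← hρ]
  have h6 : ρ g = 0 := Subsingleton.elim _ _
  simp [Representation.character, h6]

/-- If a product of characters is irreducible then so is the first factor. -/
theorem irr_left_of_mul {X : Type u} [Group X] [Finite X] {f g : X → ℂ} (hf : IsCharacter X f)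
    (hg : IsCharacter X g) (h : IsIrrCharacter X (f * g)) : IsIrrCharacter X f := by
  classical
  letI := Fintype.ofFinite X
  have h1 := irr_one_ne_zero h
  have hf0 : f ≠ 0 := by
    rintro rfl
    apply h1
    simp
  have hg1 : g 1 ≠ 0 := by
    intro h0
    apply h1
    rw [Pi.mul_apply, h0, mul_zero]
  obtain ⟨f1, hf1, hne⟩ := exists_constituent hf hf0
  have hsub := isCharacter_sub_constituent hf hf1 hne
  have h2 : f * g = f1 * g + (f - f1) * g := by ring
  rw [h2] at h
  rcases irr_add (isCharacter_mul (isCharacter_of_isIrr hf1) hg) (isCharacter_mul hsub hg) h with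
    h3 | h3
  · exfalso
    have h4 := congrFun h3 1
    rw [Pi.mul_apply, Pi.zero_apply] at h4
    rcases mul_eq_zero.1 h4 with h5 | h5
    · exact irr_one_ne_zero hf1 h5
    · exact hg1 h5
  · have h4 := congrFun h3 1
    rw [Pi.mul_apply, Pi.zero_apply] at h4
    have h5 : (f - f1) 1 = 0 := (mul_eq_zero.1 h4).resolve_right hg1
    have h6 := char_eq_zero hsub h5
    rw [sub_eq_zero.1 h6]
    exact hf1

/-- If an induced character is irreducible then so is the original one. -/
theorem irr_of_ind {X : Type u} [Group X] [Fintype X] (H : Subgroup X) {ψ : H → ℂ}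
    (hψ : IsCharacter H ψ) (h : IsIrrCharacter X (indFun H ψ)) : IsIrrCharacter H ψ := by
  classical
  letI := Fintype.ofFinite H
  have h1 := irr_one_ne_zero h
  have hidx : (H.index : ℂ) ≠ 0 := by exact_mod_cast H.index_ne_zero_of_finite
  have hψ0 : ψ ≠ 0 := by
    rintro rfl
    apply h1
    rw [indFun_one]; simp
  obtain ⟨f1, hf1, hne⟩ := exists_constituent hψ hψ0
  have hsub := isCharacter_sub_constituent hψ hf1 hne
  have h2 : indFun H ψ = indFun H f1 + indFun H (ψ - f1) := by
    rw [← indFun_add, add_sub_cancel]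
  rw [h2] at h
  rcases irr_add (isCharacter_ind H (isCharacter_of_isIrr hf1)) (isCharacter_ind H hsub) h with
    h3 | h3
  · exfalso
    have h4 := congrFun h3 1
    rw [indFun_one, Pi.zero_apply] at h4
    exact irr_one_ne_zero hf1 ((mul_eq_zero.1 h4).resolve_left hidx)
  · have h4 := congrFun h3 1
    rw [indFun_one, Pi.zero_apply] at h4
    have h6 := char_eq_zero hsub ((mul_eq_zero.1 h4).resolve_left hidx)
    rw [sub_eq_zero.1 h6]
    exact hf1

/-- A character all of whose irreducible constituents are equal. -/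
theorem homog_of_unique {X : Type u} [Group X] [Fintype X] {f θ : X → ℂ} (hf : IsCharacter X f)
    (hθ : IsIrrCharacter X θ)
    (h : ∀ ψ : X → ℂ, IsIrrCharacter X ψ → classInner f ψ ≠ 0 → ψ = θ) :
    ∃ e : ℕ, f = (e : ℂ) • θ := by
  classical
  letI := Fintype.ofFinite (IrrCharacter X)
  obtain ⟨e, he⟩ := inner_char_natCast hf (isCharacter_of_isIrr hθ)
  refine ⟨e, ?_⟩
  have h1 := mem_classFun_expand (isClassFunction_of_isCharacter hf)
  rw [Finset.sum_eq_single (⟨θ, hθ⟩ : IrrCharacter X)] at h1
  · rw [← he]; exact h1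
  · intro ψ _ hψ
    by_cases h0 : classInner f (ψ : X → ℂ) = 0
    · rw [h0, zero_smul]
    · exact absurd (Subtype.ext (h ψ ψ.2 h0)) hψ
  · intro h; exact absurd (Finset.mem_univ _) h

/-- Restriction of an irreducible character with `C` in its kernel to a supplement of `C`. -/
theorem restrict_supplement {X : Type u} [Group X] [Finite X] (C Y : Subgroup X) [C.Normal]
    {θ : X → ℂ} (hθ : IsIrrCharacter X θ) (hC : ∀ c ∈ C, θ c = θ 1)
    (h : ∀ x : X, ∃ c ∈ C, ∃ y ∈ Y, x = c * y) : IsIrrCharacter Y (fun y : Y => θ y) := by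
  have h1 := isIrrCharacter_deflate C hθ hC
  let f : Y →* X ⧸ C := (QuotientGroup.mk' C).comp Y.subtype
  have hf : Function.Surjective f := by
    intro q
    obtain ⟨x, rfl⟩ := QuotientGroup.mk'_surjective C q
    obtain ⟨c, hc, y, hy, hxy⟩ := h x
    refine ⟨⟨y, hy⟩, ?_⟩
    change ((y : X) : X ⧸ C) = (x : X ⧸ C)
    rw [QuotientGroup.eq, hxy]
    have : y⁻¹ * (c * y) = y⁻¹ * c * y⁻¹⁻¹ := by group
    rw [this]
    exact (inferInstance : C.Normal).conj_mem c hc y⁻¹
  have h2 := isIrrCharacter_comp f hf h1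
  have h3 : (fun y : Y => θ y) = fun y : Y => deflate C θ (f y) := by
    funext y
    exact (deflate_mk C (isCharacter_of_isIrr hθ) hC y).symm
  rw [h3]
  exact h2

/-- The centre of a character is closed under products. -/
theorem norm_mul_scalar {X : Type u} [Group X] [Finite X] {β : X → ℂ} (hβ : IsCharacter X β)
    {x : X} (hx : ‖β x‖ = ‖β 1‖) (y : X) : ‖β (x * y)‖ = ‖β y‖ := by
  by_cases h0 : β 1 = 0
  · have := char_eq_zero hβ h0
    rw [this]; simp
  obtain ⟨n, ρ, rfl⟩ := hβ
  have h1 : ‖ρ.character x‖ = (Module.finrank ℂ (Fin n → ℂ) : ℝ) := by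
    rw [hx, Representation.char_one]; simp
  obtain ⟨ω, hω⟩ := (H4.Eigen.norm_char_eq_iff ρ x).1 h1
  have h2 : ρ.character (x * y) = ω * ρ.character y := by
    simp only [Representation.character, map_mul, hω]
    rw [smul_mul_assoc, map_smul, smul_eq_mul]
    rfl
  have h3 : ρ.character x = ω * ρ.character 1 := by
    have : ρ.character (x * 1) = ω * ρ.character 1 := by
      simp only [Representation.character, map_mul, hω]
      rw [smul_mul_assoc, map_smul, smul_eq_mul]
      rfl
    rwa [mul_one] at this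
  have h4 : ‖ω‖ = 1 := by
    rw [h3, norm_mul] at hx
    have h5 : ‖ρ.character 1‖ ≠ 0 := norm_ne_zero_iff.2 h0
    exact mul_right_cancel₀ h5 (by rw [hx, one_mul])
  rw [h2, norm_mul, h4, one_mul]

/-- commutators with a scalar element are in the kernel -/
theorem comm_of_scalar {X : Type u} [Group X] [Finite X] {β : X → ℂ} (hβ : IsCharacter X β)
    {x : X} (hx : ‖β x‖ = ‖β 1‖) (y : X) : β (x * y * x⁻¹ * y⁻¹) = β 1 := by
  obtain ⟨n, ρ, rfl⟩ := hβ
  have h1 : ‖ρ.character x‖ = (Module.finrank ℂ (Fin n → ℂ) : ℝ) := by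
    rw [hx, Representation.char_one]; simp
  obtain ⟨ω, hω⟩ := (H4.Eigen.norm_char_eq_iff ρ x).1 h1
  have h2 : ρ (x * y * x⁻¹ * y⁻¹) = 1 := by
    have h3 : ρ (x * y) = ρ (y * x) := by
      rw [map_mul, map_mul, hω]
      ext v
      simp
    have h4 : x * y * x⁻¹ * y⁻¹ = (x * y) * (y * x)⁻¹ := by group
    rw [h4, map_mul, h3, ← map_mul, mul_inv_cancel, map_one]
  simp only [Representation.character, h2, map_one]

section cover

variable {G : Type u} [Group G] [Finite G] {Γ : Type v} [Group Γ] [Finite Γ]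

/-- Homogeneity passes from `χ` to the "projective part" `θ` of `χ ∘ π = θ β`. -/
theorem homog_of_cover (π : Γ →* G) (M : Subgroup Γ) [hM : M.Normal] {β θ : Γ → ℂ}
    {χ : G → ℂ} (hβ : IsIrrCharacter Γ β) (hβM : IsIrrCharacter M (fun x : M => β x))
    (hθ : IsIrrCharacter Γ θ) (hθM : ∀ m ∈ M, θ m = θ 1) (hχθ : ∀ x, χ (π x) = θ x * β x)
    (J : Subgroup Γ) (hMJ : M ≤ J) (A : Subgroup G) (hA : ∀ a ∈ A, ∃ x ∈ J, π x = a)
    (hJA : ∀ x ∈ J, π x ∈ A)
    (hhom : ∃ (ξ : A → ℂ) (s : ℕ), IsIrrCharacter A ξ ∧ (fun a : A => χ a) = (s : ℂ) • ξ) :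
    ∃ (θ₁ : J → ℂ) (s : ℕ), IsIrrCharacter J θ₁ ∧ (fun x : J => θ x) = (s : ℂ) • θ₁ ∧ s ≠ 0 := by
  classical
  letI := Fintype.ofFinite G
  letI := Fintype.ofFinite Γ
  letI := Fintype.ofFinite J
  obtain ⟨ξ, s, hξ, hξs⟩ := hhom
  have hθc := isCharacter_of_isIrr hθ
  have hβc := isCharacter_of_isIrr hβ
  have hθ1 := irr_one_ne_zero hθ
  obtain ⟨θ₁, hθ₁, hθ₁ne⟩ := exists_constituent_restrict J hθ
  let M' : Subgroup J := M.subgroupOf J
  haveI : M'.Normal := Subgroup.normal_subgroupOf
  letI := Fintype.ofFinite M'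
  let j : M' ≃* M := Subgroup.subgroupOfEquivOfLe hMJ
  have hβJ : IsIrrCharacter J (fun x : J => β x) := by
    -- irreducible on `M`, hence on `J`
    have h1 : IsIrrCharacter M' (fun x : M' => β ((x : J) : Γ)) :=
      (isIrrCharacter_mulEquiv j).1 hβM
    obtain ⟨ψ, hψ, hψne⟩ := exists_constituent (isCharacter_restrict J hβc) (by
      intro h0
      have := congrFun h0 1
      exact irr_one_ne_zero hβ this)
    have hsub := isCharacter_sub_constituent (isCharacter_restrict J hβc) hψ hψne
    have h2 : (fun x : M' => β ((x : J) : Γ)) =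
        (fun x : M' => ψ x) + (fun x : M' => ((fun x : J => β x) - ψ) x) := by
      funext x
      simp
    rw [h2] at h1
    rcases irr_add (isCharacter_restrict M' (isCharacter_of_isIrr hψ))
      (isCharacter_restrict M' hsub) h1 with h3 | h3
    · exact absurd (congrFun h3 1) (irr_one_ne_zero hψ)
    · have h4 := char_eq_zero hsub (congrFun h3 1)
      rw [sub_eq_zero.1 h4]
      exact hψ
  have hβM' : IsIrrCharacter M' (fun x : M' => (fun y : J => β y) x) :=
    (isIrrCharacter_mulEquiv j).1 hβM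
  let π' : J →* A := (π.comp J.subtype).codRestrict A (fun x => hJA x x.2)
  have hπ' : Function.Surjective π' := by
    rintro ⟨a, ha⟩
    obtain ⟨x, hx, hxa⟩ := hA a ha
    exact ⟨⟨x, hx⟩, Subtype.ext hxa⟩
  have hξπ : IsIrrCharacter J (fun x => ξ (π' x)) := isIrrCharacter_comp π' hπ' hξ
  -- key: any constituent times β is ξ ∘ π'
  have key : ∀ ψ : J → ℂ, IsIrrCharacter J ψ → classInner (fun x : J => θ x) ψ ≠ 0 →
      (fun x : J => ψ x * β x) = (fun x => ξ (π' x)) ∧ ∀ m ∈ M', ψ m = ψ 1 := by
    intro ψ hψ hne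
    have hψc := isCharacter_of_isIrr hψ
    have hsub := isCharacter_sub_constituent (isCharacter_restrict J hθc) hψ hne
    -- M' in the kernel of ψ
    have hker : ∀ m ∈ M', ψ m = ψ 1 := by
      intro m hm
      have h1 : θ (m : Γ) = θ 1 := hθM _ hm
      have h2 := char_norm_le hψc m
      have h3 := char_norm_le hsub m
      -- real parts
      have h4 : ψ m + ((fun x : J => θ x) - ψ) m = ψ 1 + ((fun x : J => θ x) - ψ) 1 := by
        simp only [Pi.sub_apply, add_sub_cancel]
        exact h1
      obtain ⟨a, ha⟩ := exists_degree hψc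
      obtain ⟨b, hb⟩ := exists_degree hsub
      rw [ha, Complex.natCast_re] at h2
      rw [hb, Complex.natCast_re] at h3
      rw [ha, hb] at h4
      have h5 := congrArg Complex.re h4
      simp only [Complex.add_re, Complex.natCast_re] at h5
      have h6 : (ψ m).re ≤ ‖ψ m‖ := Complex.re_le_norm _
      have h7 : (((fun x : J => θ x) - ψ) m).re ≤ ‖((fun x : J => θ x) - ψ) m‖ :=
        Complex.re_le_norm _
      have h8 : (ψ m).re = a := by linarith
      have h9 : ‖ψ m‖ = a := by linarith
      have h10 : (ψ m).im = 0 := by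
        have := Complex.sq_norm (ψ m)
        rw [Complex.normSq_apply, h9, h8] at this
        nlinarith
      rw [ha]
      apply Complex.ext
      · rw [h8]; simp
      · rw [h10]; simp
    refine ⟨?_, hker⟩
    have hirr : IsIrrCharacter J (fun x : J => ψ x * β x) :=
      H83.Gallagher.isIrr_mul hβJ M' hβM' hψ hker
    -- inner product with ξ ∘ π'
    by_contra hcon
    have h1 : classInner (fun x : J => ψ x * β x) (fun x : J => θ x * β x) = 0 := by
      have h2 : (fun x : J => θ x * β x) = (s : ℂ) • (fun x => ξ (π' x)) := by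
        funext x
        have := congrFun hξs (π' x)
        simp only [Pi.smul_apply, smul_eq_mul] at this ⊢
        rw [← this]
        exact (hχθ x).symm
      rw [h2, H18.CharOrtho.inner_smul_right, inner_irr_ne hirr hξπ hcon, mul_zero]
    have h2 : (fun x : J => θ x * β x) = (fun x : J => ψ x * β x) +
        (fun x : J => (((fun x : J => θ x) - ψ) * (fun x : J => β x)) x) := by
      funext x
      simp only [Pi.add_apply, Pi.mul_apply, Pi.sub_apply]
      ring
    rw [h2, H18.CharOrtho.inner_add_right, inner_irr_self hirr] at h1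
    obtain ⟨n, hn⟩ := inner_char_natCast (isCharacter_of_isIrr hirr)
      (isCharacter_mul hsub (isCharacter_restrict J hβc))
    have h3 : (1 : ℂ) + n = 0 := by rw [← hn]; exact h1
    have h4 : 1 + n = 0 := by exact_mod_cast h3
    omega
  have huniq : ∀ ψ : J → ℂ, IsIrrCharacter J ψ → classInner (fun x : J => θ x) ψ ≠ 0 → ψ = θ₁ := by
    intro ψ hψ hne
    obtain ⟨h1, h2⟩ := key ψ hψ hne
    obtain ⟨h3, h4⟩ := key θ₁ hθ₁ hθ₁ne
    apply H83.Gallagher.mul_inj hβJ M' hβM' (β := ψ) (γ := θ₁)
    · intro g n hn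
      exact char_mul_right (isCharacter_of_isIrr hψ) (h2 n hn) g
    · intro g n hn
      exact char_mul_right (isCharacter_of_isIrr hθ₁) (h4 n hn) g
    · intro g
      exact congrFun (h1.trans h3.symm) g
  obtain ⟨e, he⟩ := homog_of_unique (isCharacter_restrict J hθc) hθ₁ huniq
  refine ⟨θ₁, e, hθ₁, he, ?_⟩
  rintro rfl
  have h1 := congrFun he 1
  apply hθ1
  have h2 : θ ((1 : J) : Γ) = 0 := by
    rw [h1]; simp
  exact h2

end cover

end H19.Berger
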