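import Cfsg.Agent.Lib.H31.Clifford

/-!
# Fully ramified characters
-/

set_option autoImplicit false
set_option linter.unusedSectionVars false
set_option linter.style.haveILetI false

namespace H19.FullRam

open Cfsg H18.CharBasic H18.CharOrtho H18.CharInd H18.CharQuot H31.Clifford
open scoped ComplexConjugate

universe u

variable {G : Type u} [Group G] [Fintype G] (N : Subgroup G) [hN : N.Normal] [Fintype N]

theorem restrict_inv {χ : G → ℂ} (hχ : IsIrrCharacter G χ) {ϑ : N → ℂ} (hϑ : IsIrrCharacter N ϑ)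
    (hcon : classInner (fun n : N => χ n) ϑ ≠ 0)
    (hinv : ∀ (g : G) (n : N), ϑ ⟨g * n * g⁻¹, hN.conj_mem (n : G) n.2 g⟩ = ϑ n) :
    ∃ e : ℕ, e ≠ 0 ∧ (fun n : N => χ n) = (e : ℂ) • ϑ ∧ classInner (fun n : N => χ n) ϑ = e := by
  obtain ⟨e, he⟩ := inner_char_natCast
    (isCharacter_restrict N (isCharacter_of_isIrr hχ)) (isCharacter_of_isIrr hϑ)
  have h1 := restrict_eq N hχ hϑ hcon
  have h2 : orb N ϑ = {ϑ} := by
    ext φ
    rw [mem_orb, Finset.mem_singleton]
    constructor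
    · rintro ⟨g, rfl⟩
      funext n
      exact hinv g n
    · rintro rfl
      exact ⟨1, (cj_one N _).symm⟩
  rw [h2, Finset.sum_singleton, he] at h1
  refine ⟨e, ?_, h1, he⟩
  rintro rfl
  apply hcon
  rw [he]; simp

/-- `|N| [χ_N, χ_N] + Σ_{g ∉ N} |χ(g)|² = |G|` -/
theorem norm_restrict {χ : G → ℂ} (hχ : IsIrrCharacter G χ) [DecidablePred (· ∈ N)] :
    (Nat.card N : ℝ) * (classInner (fun n : N => χ n) (fun n : N => χ n)).re +
      ∑ g ∈ Finset.univ.filter (fun g : G => g ∉ N), ‖χ g‖ ^ 2 = Nat.card G := by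
  have h1 := inner_irr_self hχ
  rw [inner_self_eq_sum] at h1
  have h2 : (Nat.card G : ℝ)⁻¹ * ∑ g : G, ‖χ g‖ ^ 2 = 1 := by exact_mod_cast h1
  have h3 : (Nat.card G : ℝ) ≠ 0 := by exact_mod_cast (Nat.card_pos (α := G)).ne'
  have h4 : ∑ g : G, ‖χ g‖ ^ 2 = Nat.card G := by
    field_simp at h2
    exact h2
  rw [inner_self_eq_sum, Complex.ofReal_re]
  have h5 : (Nat.card N : ℝ) ≠ 0 := by exact_mod_cast (Nat.card_pos (α := N)).ne'
  rw [mul_inv_cancel_left₀ h5, ← h4]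
  rw [← Finset.sum_filter_add_sum_filter_not Finset.univ (fun g : G => g ∈ N)]
  congr 1
  symm
  rw [← Finset.sum_subtype (Finset.univ.filter (fun g : G => g ∈ N)) (by simp) (fun g => ‖χ g‖ ^ 2)]

theorem main {χ : G → ℂ} (hχ : IsIrrCharacter G χ) {ϑ : N → ℂ}
    (hϑ : IsIrrCharacter N ϑ) (hcon : classInner (fun n : N => χ n) ϑ ≠ 0) :
    ((∃ e : ℕ, (fun n : N => χ n) = (e : ℂ) • ϑ ∧ e ^ 2 = N.index) ↔
      ((∀ g : G, g ∉ N → χ g = 0) ∧
        ∀ (g : G) (n : N), ϑ ⟨g * n * g⁻¹, hN.conj_mem (n : G) n.2 g⟩ = ϑ n)) ∧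
    ((∃ e : ℕ, (fun n : N => χ n) = (e : ℂ) • ϑ ∧ e ^ 2 = N.index) ↔
      (∀ (g : G) (n : N), ϑ ⟨g * n * g⁻¹, hN.conj_mem (n : G) n.2 g⟩ = ϑ n ∧
        ∀ ψ : G → ℂ, IsIrrCharacter G ψ → classInner (indFun N ϑ) ψ ≠ 0 → ψ = χ)) := by
  classical
  have hcf := isClassFunction_of_isIrr hχ
  have hNpos : (Nat.card N : ℝ) ≠ 0 := by exact_mod_cast (Nat.card_pos (α := N)).ne'
  have hidx : (Nat.card N : ℝ) * (N.index : ℝ) = Nat.card G := by
    exact_mod_cast Subgroup.card_mul_index N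
  have hab : (∃ e : ℕ, (fun n : N => χ n) = (e : ℂ) • ϑ ∧ e ^ 2 = N.index) →
      ((∀ g : G, g ∉ N → χ g = 0) ∧
        ∀ (g : G) (n : N), ϑ ⟨g * n * g⁻¹, hN.conj_mem (n : G) n.2 g⟩ = ϑ n) := by
    rintro ⟨e, he1, he2⟩
    have he0 : (e : ℂ) ≠ 0 := by
      intro h0
      have h1 : e = 0 := by exact_mod_cast h0
      rw [h1] at he2
      exact N.index_ne_zero_of_finite he2.symm
    refine ⟨?_, ?_⟩
    · have h1 := norm_restrict N hχ
      have h2 : (classInner (fun n : N => χ n) (fun n : N => χ n)).re = (N.index : ℝ) := by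
        rw [he1, H18.CharOrtho.inner_smul_left, H18.CharOrtho.inner_smul_right, inner_irr_self hϑ, ← he2]
        have : (e : ℂ) * (conj (e : ℂ) * 1) = ((e ^ 2 : ℕ) : ℂ) := by
          rw [Complex.conj_natCast]; push_cast; ring
        rw [this, Complex.natCast_re]
      rw [h2, hidx] at h1
      have h3 : ∑ g ∈ Finset.univ.filter (fun g : G => g ∉ N), ‖χ g‖ ^ 2 = 0 := by linarith
      rw [Finset.sum_eq_zero_iff_of_nonneg (fun _ _ => by positivity)] at h3
      intro g hg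
      have h4 := h3 g (Finset.mem_filter.2 ⟨Finset.mem_univ _, hg⟩)
      simpa using h4
    · intro g n
      have h1 := congrFun he1 n
      have h2 := congrFun he1 ⟨g * n * g⁻¹, hN.conj_mem (n : G) n.2 g⟩
      have h3 : χ (g * n * g⁻¹) = χ n := hcf _ _
      rw [Pi.smul_apply, smul_eq_mul] at h1 h2
      apply mul_left_cancel₀ he0
      rw [← h1, ← h2]
      exact h3
  have hba : ((∀ g : G, g ∉ N → χ g = 0) ∧
        ∀ (g : G) (n : N), ϑ ⟨g * n * g⁻¹, hN.conj_mem (n : G) n.2 g⟩ = ϑ n) →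
      (∃ e : ℕ, (fun n : N => χ n) = (e : ℂ) • ϑ ∧ e ^ 2 = N.index) := by
    rintro ⟨hv, hinv⟩
    obtain ⟨e, -, he1, -⟩ := restrict_inv N hχ hϑ hcon hinv
    refine ⟨e, he1, ?_⟩
    have h1 := norm_restrict N hχ
    rw [Finset.sum_eq_zero, add_zero] at h1
    swap
    · intro g hg
      rw [hv g (Finset.mem_filter.1 hg).2]; simp
    rw [he1, H18.CharOrtho.inner_smul_left, H18.CharOrtho.inner_smul_right, inner_irr_self hϑ, ← hidx] at h1
    have h2 : (e : ℂ) * (conj (e : ℂ) * 1) = ((e ^ 2 : ℕ) : ℂ) := by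
      rw [Complex.conj_natCast]; push_cast; ring
    rw [h2, Complex.natCast_re] at h1
    have h3 := mul_left_cancel₀ hNpos h1
    exact_mod_cast h3
  refine ⟨⟨hab, hba⟩, ?_, ?_⟩
  · intro ha
    obtain ⟨hv, hinv⟩ := hab ha
    obtain ⟨e, he1, he2⟩ := ha
    intro g n
    refine ⟨hinv g n, ?_⟩
    intro ψ hψ hne
    have hind : indFun N ϑ = (e : ℂ) • χ := by
      funext x
      by_cases hx : x ∈ N
      · have h1 := ind_restrict_apply N ϑ ⟨x, hx⟩
        rw [h1, Pi.smul_apply, smul_eq_mul]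
        have h2 : ∀ y : G, conjFunN N y ϑ ⟨x, hx⟩ = ϑ ⟨x, hx⟩ := fun y => hinv y ⟨x, hx⟩
        rw [Finset.sum_congr rfl fun y _ => h2 y, Finset.sum_const, Finset.card_univ,
          nsmul_eq_mul, ← Nat.card_eq_fintype_card]
        have h3 := congrFun he1 ⟨x, hx⟩
        rw [Pi.smul_apply, smul_eq_mul] at h3
        change χ x = _ at h3
        rw [h3, ← mul_assoc, ← mul_assoc]
        congr 1
        have h4 : (Nat.card G : ℂ) = Nat.card N * (e ^ 2 : ℕ) := by
          rw [he2]; exact_mod_cast (Subgroup.card_mul_index N).symm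
        have h5 : (Nat.card N : ℂ) ≠ 0 := by exact_mod_cast (Nat.card_pos (α := N)).ne'
        rw [h4, inv_mul_cancel_left₀ h5]
        push_cast; ring
      · rw [ind_not_mem N ϑ hx, Pi.smul_apply, hv x hx, smul_zero]
    rw [hind, H18.CharOrtho.inner_smul_left] at hne
    by_contra hcon2
    apply hne
    rw [inner_irr_ne hχ hψ (Ne.symm hcon2), mul_zero]
  · intro hc
    have hinv : ∀ (g : G) (n : N), ϑ ⟨g * n * g⁻¹, hN.conj_mem (n : G) n.2 g⟩ = ϑ n :=
      fun g n => (hc g n).1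
    have huniq := (hc 1 1).2
    obtain ⟨e, he0, he1, he2⟩ := restrict_inv N hχ hϑ hcon hinv
    refine ⟨e, he1, ?_⟩
    letI := Fintype.ofFinite (IrrCharacter G)
    have h1 := mem_classFun_expand (isClassFunction_indFun N ϑ)
    rw [Finset.sum_eq_single (⟨χ, hχ⟩ : IrrCharacter G)] at h1
    rotate_left
    · intro ψ _ hψ
      by_cases h0 : classInner (indFun N ϑ) (ψ : G → ℂ) = 0
      · rw [h0, zero_smul]
      · exact absurd (Subtype.ext (huniq ψ ψ.2 h0)) hψ
    · intro h; exact absurd (Finset.mem_univ _) h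
    have h2 : classInner (indFun N ϑ) χ = e := by
      rw [frobenius N ϑ hcf, ← H18.CharOrtho.inner_conj_symm, he2, Complex.conj_natCast]
    have h3 := congrFun h1 1
    rw [Pi.smul_apply, smul_eq_mul] at h3
    change indFun N ϑ 1 = classInner (indFun N ϑ) χ * χ 1 at h3
    rw [h2, indFun_one] at h3
    have h4 := congrFun he1 1
    rw [Pi.smul_apply, smul_eq_mul] at h4
    change χ 1 = _ at h4
    rw [h4] at h3
    have h5 : ϑ 1 ≠ 0 := irr_one_ne_zero hϑ
    have h6 : (N.index : ℂ) = (e : ℂ) * e := by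
      apply mul_right_cancel₀ h5
      rw [h3]; ring
    have h7 : N.index = e * e := by exact_mod_cast h6
    rw [h7, sq]

end H19.FullRam
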