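import Cfsg.Agent.Lib.H19.ProjExt2
import Cfsg.Agent.Lib.H19.ProjExt3
import Cfsg.Agent.Lib.H19.FullRam
import Cfsg.Agent.Lib.H4.CenterIndex
import Cfsg.Agent.Lib.H83.Gallagher

/-!
# The covering group of an invariant character; `χ(1)/ϑ(1)` divides `|G : N|`
-/

set_option autoImplicit false
set_option linter.unusedSectionVars false
set_option linter.style.haveILetI false

namespace H19.CharExt

open Cfsg H19.ProjExt H19.ProjExt2
open scoped ComplexConjugate

universe u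

variable {G : Type u} [Group G] {N : Subgroup G} [hN : N.Normal] {d : ℕ}

/-- the group of pairs `(g, S)` with `S` intertwining `ρ` and its `g`-conjugate, `det S ^ m = 1` -/
def Cov (ρ : Representation ℂ N (Fin d → ℂ)) (m : ℕ) :
    Subgroup (G × (Module.End ℂ (Fin d → ℂ))ˣ) where
  carrier := {x | Intw ρ x.1 (x.2 : Module.End ℂ (Fin d → ℂ)) ∧
    LinearMap.det (x.2 : Module.End ℂ (Fin d → ℂ)) ^ m = 1}
  one_mem' := by
    refine ⟨?_, ?_⟩
    · exact intw_one ρ
    · change LinearMap.det (1 : Module.End ℂ (Fin d → ℂ)) ^ m = 1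
      rw [map_one, one_pow]
  mul_mem' := by
    rintro x y ⟨hx1, hx2⟩ ⟨hy1, hy2⟩
    refine ⟨hx1.mul hy1, ?_⟩
    change LinearMap.det ((x.2 : Module.End ℂ (Fin d → ℂ)) * (y.2 : Module.End ℂ (Fin d → ℂ))) ^ m = 1
    rw [map_mul, mul_pow, hx2, hy2, one_mul]
  inv_mem' := by
    rintro x ⟨hx1, hx2⟩
    refine ⟨hx1.inv, ?_⟩
    have h1 : LinearMap.det (((x⁻¹).2 : (Module.End ℂ (Fin d → ℂ))ˣ) : Module.End ℂ (Fin d → ℂ)) *
        LinearMap.det (x.2 : Module.End ℂ (Fin d → ℂ)) = 1 := by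
      rw [← map_mul]
      change LinearMap.det (((x.2⁻¹ : (Module.End ℂ (Fin d → ℂ))ˣ) : Module.End ℂ (Fin d → ℂ)) *
        (x.2 : Module.End ℂ (Fin d → ℂ))) = 1
      rw [Units.inv_mul, map_one]
    have h2 := congrArg (· ^ m) h1
    simp only [mul_pow, hx2, mul_one, one_pow] at h2
    exact h2

theorem mem_Cov {ρ : Representation ℂ N (Fin d → ℂ)} {m : ℕ}
    {x : G × (Module.End ℂ (Fin d → ℂ))ˣ} : x ∈ Cov ρ m ↔
      Intw ρ x.1 (x.2 : Module.End ℂ (Fin d → ℂ)) ∧
        LinearMap.det (x.2 : Module.End ℂ (Fin d → ℂ)) ^ m = 1 := Iff.rfl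

theorem finite_Cov [Finite G] {ρ : Representation ℂ N (Fin d → ℂ)} (hρ : ρ.IsIrreducible) {m : ℕ}
    (hm : 0 < m) : Finite (Cov ρ m) := by
  classical
  haveI := nontrivial_of_irreducible ρ hρ
  have hd : 0 < d := by
    rcases Nat.eq_zero_or_pos d with h | h
    · subst h
      exact absurd (inferInstance : Subsingleton (Fin 0 → ℂ)) (not_subsingleton _)
    · exact h
  have hdm : 0 < d * m := Nat.mul_pos hd hm
  rw [← SetLike.coe_sort_coe, Set.finite_coe_iff]
  apply Set.Finite.of_finite_fibers Prod.fst (Set.toFinite _)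
  rintro g ⟨⟨g', S0⟩, hS0, hg'⟩
  simp only at hg'
  subst hg'
  let f : G × (Module.End ℂ (Fin d → ℂ))ˣ → ℂ := fun x =>
    if h : ∃ c : ℂ, (x.2 : Module.End ℂ (Fin d → ℂ)) = c • (S0 : Module.End ℂ (Fin d → ℂ))
    then h.choose else 0
  have hf : ∀ x : G × (Module.End ℂ (Fin d → ℂ))ˣ,
      x ∈ (Cov ρ m : Set (G × (Module.End ℂ (Fin d → ℂ))ˣ)) ∩ Prod.fst ⁻¹' {g'} →
      (x.2 : Module.End ℂ (Fin d → ℂ)) = f x • (S0 : Module.End ℂ (Fin d → ℂ)) := by
    rintro x ⟨hx, hxg⟩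
    have hxg' : x.1 = g' := hxg
    have h1 : Intw ρ g' (x.2 : Module.End ℂ (Fin d → ℂ)) := hxg' ▸ hx.1
    have h2 : ∃ c : ℂ, (x.2 : Module.End ℂ (Fin d → ℂ)) = c • (S0 : Module.End ℂ (Fin d → ℂ)) :=
      exists_scalar hρ h1 hS0.1
    change _ = (dite _ _ _ : ℂ) • _
    rw [dif_pos h2]
    exact h2.choose_spec
  apply Set.Finite.of_finite_image (f := f)
  · apply Set.Finite.subset (Polynomial.nthRootsFinset (d * m) (1 : ℂ)).finite_toSet
    rintro _ ⟨x, hx, rfl⟩
    rw [Finset.mem_coe, Polynomial.mem_nthRootsFinset hdm]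
    have h1 := hf x hx
    have h2 : LinearMap.det (x.2 : Module.End ℂ (Fin d → ℂ)) ^ m = 1 := hx.1.2
    have h3 : LinearMap.det (S0 : Module.End ℂ (Fin d → ℂ)) ^ m = 1 := hS0.2
    rw [h1, LinearMap.det_smul, mul_pow, h3, mul_one, Module.finrank_fin_fun, ← pow_mul] at h2
    exact h2
  · intro x hx y hy hxy
    apply Prod.ext
    · exact (show x.1 = g' from hx.2).trans (show y.1 = g' from hy.2).symm
    · apply Units.ext
      rw [hf x hx, hf y hy, hxy]

/-- The covering group of an invariant irreducible character. -/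
theorem exists_cover [Finite G] {ϑ : N → ℂ} (hϑ : IsIrrCharacter N ϑ)
    (hinv : ∀ (g : G) (n : N), ϑ ⟨g * n * g⁻¹, hN.conj_mem (n : G) n.2 g⟩ = ϑ n) :
    ∃ (Γ : Type u) (_ : Group Γ) (_ : Finite Γ) (π : Γ →* G) (M : Subgroup Γ) (_ : M.Normal)
      (e : M ≃* N) (β : Γ → ℂ), Function.Surjective π ∧ (∀ x : M, π x = e x) ∧
      IsIrrCharacter Γ β ∧ (∀ x : M, β x = ϑ (e x)) ∧
      (∀ k ∈ π.ker, ∀ x : Γ, k * x = x * k) ∧ (∀ k ∈ π.ker, ‖β k‖ = ‖β 1‖) := by
  classical
  obtain ⟨d, ρ, hρ, hρϑ⟩ := hϑ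
  have hinv' : ∀ (g : G) (n : N), ρ.character (MulAut.conjNormal g n) = ρ.character n := by
    intro g n
    rw [hρϑ]
    exact hinv g n
  haveI hnt := nontrivial_of_irreducible ρ hρ
  have hd : 0 < d := by
    rcases Nat.eq_zero_or_pos d with h | h
    · subst h
      exact absurd (inferInstance : Subsingleton (Fin 0 → ℂ)) (not_subsingleton _)
    · exact h
  set m := Nat.card N with hm
  have hmpos : 0 < m := Nat.card_pos
  have hfin := finite_Cov hρ hmpos
  let π : Cov ρ m →* G := (MonoidHom.fst G _).comp (Cov ρ m).subtype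
  have hπ : ∀ x : Cov ρ m, π x = x.1.1 := fun x => rfl
  -- the embedding of `N`
  have hmemN : ∀ n : N, ((n : G), ρ.toHomUnits n) ∈ Cov ρ m := by
    intro n
    refine ⟨?_, ?_⟩
    · exact intw_self ρ n
    · change LinearMap.det (ρ n) ^ m = 1
      rw [← map_pow, ← map_pow, hm, pow_card_eq_one', map_one, map_one]
  let ι : N →* Cov ρ m :=
    { toFun := fun n => ⟨((n : G), ρ.toHomUnits n), hmemN n⟩
      map_one' := by
        apply Subtype.ext
        change ((1 : G), ρ.toHomUnits 1) = 1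
        rw [map_one]; rfl
      map_mul' := fun a b => by
        apply Subtype.ext
        change (((a : G) * b), ρ.toHomUnits (a * b)) = ((a : G) * b, ρ.toHomUnits a * ρ.toHomUnits b)
        rw [map_mul] }
  have hιinj : Function.Injective ι := by
    intro a b hab
    have := congrArg (fun x : Cov ρ m => x.1.1) hab
    exact Subtype.ext this
  have hMn : ι.range.Normal := by
    constructor
    rintro _ ⟨n, rfl⟩ x
    refine ⟨MulAut.conjNormal x.1.1 n, ?_⟩
    apply Subtype.ext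
    apply Prod.ext
    · rfl
    · apply Units.ext
      have h1 : (x.1.2 : Module.End ℂ (Fin d → ℂ)) * ρ n = ρ (MulAut.conjNormal x.1.1 n) * x.1.2 :=
        x.2.1 n
      change ρ (MulAut.conjNormal x.1.1 n) =
        (x.1.2 : Module.End ℂ (Fin d → ℂ)) * ρ n *
          ((x.1.2⁻¹ : (Module.End ℂ (Fin d → ℂ))ˣ) : Module.End ℂ (Fin d → ℂ))
      rw [h1, mul_assoc, Units.mul_inv, mul_one]
  let e : ι.range ≃* N := (MonoidHom.ofInjective hιinj).symm
  have he : ∀ x : ι.range, ι (e x) = x := by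
    intro x
    have := (MonoidHom.ofInjective hιinj).apply_symm_apply x
    exact congrArg Subtype.val this
  let σ : Representation ℂ (Cov ρ m) (Fin d → ℂ) :=
    (Units.coeHom (Module.End ℂ (Fin d → ℂ))).comp
      ((MonoidHom.snd G ((Module.End ℂ (Fin d → ℂ))ˣ)).comp (Cov ρ m).subtype)
  have hσι : ∀ n : N, σ (ι n) = ρ n := fun n => rfl
  have hσM : ∀ x : ι.range, σ x = ρ (e x) := by
    intro x
    rw [← hσι, he]
  have hσirr : σ.IsIrreducible := by
    haveI := hMn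
    apply isIrreducible_of_restrict (N := ι.range)
    have h1 : (σ.comp ι.range.subtype : Representation ℂ ι.range (Fin d → ℂ)) =
        ρ.comp e.toMonoidHom := by
      apply MonoidHom.ext
      intro x
      exact hσM x
    rw [h1]
    exact isIrreducible_comp_equiv e hρ
  have hscal : ∀ k ∈ π.ker, ∃ c : ℂ, σ k = c • (LinearMap.id : (Fin d → ℂ) →ₗ[ℂ] (Fin d → ℂ)) := by
    intro k hk
    have h1 : k.1.1 = 1 := hk
    have h2 : Intw ρ 1 (k.1.2 : Module.End ℂ (Fin d → ℂ)) := h1 ▸ k.2.1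
    obtain ⟨c, hc⟩ := exists_scalar_of_intw_one hρ h2
    exact ⟨c, hc⟩
  refine ⟨Cov ρ m, inferInstance, hfin, π, ι.range, hMn, e, σ.character, ?_, ?_, ?_, ?_, ?_, ?_⟩
  · -- surjectivity
    intro g
    obtain ⟨S, hS⟩ := exists_intw hρ g (hinv' g)
    have hdet : LinearMap.det (S : Module.End ℂ (Fin d → ℂ)) ≠ 0 := by
      intro h0
      have h1 : LinearMap.det (S : Module.End ℂ (Fin d → ℂ)) *
          LinearMap.det ((S⁻¹ : (Module.End ℂ (Fin d → ℂ))ˣ) : Module.End ℂ (Fin d → ℂ)) = 1 := by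
        rw [← map_mul, Units.mul_inv, map_one]
      rw [h0, zero_mul] at h1
      exact zero_ne_one h1
    obtain ⟨c, hc⟩ := IsAlgClosed.exists_pow_nat_eq
      (LinearMap.det (S : Module.End ℂ (Fin d → ℂ)))⁻¹ hd
    have hc0 : c ≠ 0 := by
      rintro rfl
      rw [zero_pow hd.ne'] at hc
      exact hdet (inv_eq_zero.1 hc.symm)
    let cu : (Module.End ℂ (Fin d → ℂ))ˣ :=
      ⟨c • 1, c⁻¹ • 1, by rw [smul_mul_smul_comm, mul_inv_cancel₀ hc0, one_smul, one_mul],
        by rw [smul_mul_smul_comm, inv_mul_cancel₀ hc0, one_smul, one_mul]⟩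
    have hcu : ((cu * S : (Module.End ℂ (Fin d → ℂ))ˣ) : Module.End ℂ (Fin d → ℂ)) =
        c • (S : Module.End ℂ (Fin d → ℂ)) := by
      change (c • (1 : Module.End ℂ (Fin d → ℂ))) * (S : Module.End ℂ (Fin d → ℂ)) = _
      rw [smul_mul_assoc, one_mul]
    refine ⟨⟨(g, cu * S), ?_, ?_⟩, rfl⟩
    · change Intw ρ g ((cu * S : (Module.End ℂ (Fin d → ℂ))ˣ) : Module.End ℂ (Fin d → ℂ))
      rw [hcu]
      exact hS.smul c
    · change LinearMap.det ((cu * S : (Module.End ℂ (Fin d → ℂ))ˣ) : Module.End ℂ (Fin d → ℂ)) ^ m = 1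
      rw [hcu, LinearMap.det_smul, Module.finrank_fin_fun, hc, inv_mul_cancel₀ hdet, one_pow]
  · intro x
    have h1 : π (ι (e x)) = (e x : G) := rfl
    rw [he] at h1
    exact h1
  · exact H18.CharBasic.isIrrCharacter_of_rep σ hσirr
  · intro x
    rw [← hρϑ]
    simp only [Representation.character, hσM]
  · intro k hk x
    have h1 : k.1.1 = 1 := hk
    apply Subtype.ext
    apply Prod.ext
    · change k.1.1 * x.1.1 = x.1.1 * k.1.1
      rw [h1, one_mul, mul_one]
    · obtain ⟨c, hc⟩ := hscal k hk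
      have hc' : (k.1.2 : Module.End ℂ (Fin d → ℂ)) = c • 1 := hc
      apply Units.ext
      change (k.1.2 : Module.End ℂ (Fin d → ℂ)) * (x.1.2 : Module.End ℂ (Fin d → ℂ)) =
        (x.1.2 : Module.End ℂ (Fin d → ℂ)) * k.1.2
      rw [hc', smul_mul_assoc, mul_smul_comm, one_mul, mul_one]
  · intro k hk
    have h1 : ‖σ.character k‖ = (Module.finrank ℂ (Fin d → ℂ) : ℝ) := by
      rw [H4.Eigen.norm_char_eq_iff]
      exact hscal k hk
    rw [h1, Representation.char_one]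
    simp

/-- the invariant case of the divisibility theorem -/
theorem dvd_of_invariant [Fintype G] [Fintype N] {χ : G → ℂ} (hχ : IsIrrCharacter G χ) {ϑ : N → ℂ}
    (hϑ : IsIrrCharacter N ϑ) (hcon : classInner (fun n : N => χ n) ϑ ≠ 0)
    (hinv : ∀ (g : G) (n : N), ϑ ⟨g * n * g⁻¹, hN.conj_mem (n : G) n.2 g⟩ = ϑ n)
    (e : ℕ) (he : (fun n : N => χ n) = (e : ℂ) • ϑ) : e ∣ N.index := by
  classical
  obtain ⟨Γ, _, _, π, M, _, i, β, hπ, hπM, hβ, hβM, hker, hknorm⟩ := exists_cover hϑ hinv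
  letI := Fintype.ofFinite Γ
  letI := Fintype.ofFinite M
  have hχ' : IsIrrCharacter Γ (fun x => χ (π x)) := H18.CharBasic.isIrrCharacter_comp π hπ hχ
  have hβM' : (fun x : M => β x) = fun x => ϑ (i x) := funext hβM
  have hβMirr : IsIrrCharacter M (fun x : M => β x) := by
    rw [hβM']
    exact (H18.CharQuot.isIrrCharacter_mulEquiv i).1 hϑ
  have hover : classInner (fun x : M => χ (π x)) (fun x : M => β x) ≠ 0 := by
    have h1 : (fun x : M => χ (π x)) = fun x : M => (fun n : N => χ n) (i x) := by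
      funext x
      rw [hπM]
    rw [h1, hβM', H18.CharQuot.classInner_mulEquiv i (fun n : N => χ n) ϑ]
    exact hcon
  obtain ⟨η, hη, hηM, hηβ⟩ := H83.Gallagher.exists_eq_mul hβ M hβMirr hχ' hover
  -- degrees
  have hϑ1 : ϑ 1 ≠ 0 := H18.CharBasic.irr_one_ne_zero hϑ
  have hβ1 : β 1 = ϑ 1 := by
    have := hβM 1
    rw [map_one] at this
    exact this
  have h1 := congrFun hηβ 1
  simp only [map_one] at h1
  have h2 := congrFun he 1
  rw [Pi.smul_apply, smul_eq_mul] at h2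
  change χ 1 = _ at h2
  have hη1 : η 1 = e := by
    rw [h2, hβ1] at h1
    exact (mul_right_cancel₀ hϑ1 h1).symm
  -- scalars
  have hkη : ∀ k ∈ π.ker, ‖η k‖ = ‖η 1‖ := by
    intro k hk
    have h3 := congrFun hηβ k
    have h4 : π k = 1 := hk
    simp only [h4] at h3
    have h5 : η k * β k = η 1 * β 1 := by rw [← h3, h1]
    have h6 : ‖η k‖ * ‖β k‖ = ‖η 1‖ * ‖β 1‖ := by rw [← norm_mul, h5, norm_mul]
    rw [hknorm k hk] at h6
    have h7 : ‖β 1‖ ≠ 0 := by rw [hβ1]; exact norm_ne_zero_iff.2 hϑ1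
    exact mul_right_cancel₀ h7 h6
  have hηc := H18.CharBasic.isCharacter_of_isIrr hη
  have hnorm : ∀ z ∈ N.comap π, ‖η z‖ = ‖η 1‖ := by
    intro z hz
    -- z = m k
    have h3 : π z ∈ N := hz
    let y : M := i.symm ⟨π z, h3⟩
    have hy : π y = π z := by rw [hπM]; simp [y]
    have hk : (y : Γ)⁻¹ * z ∈ π.ker := by
      rw [MonoidHom.mem_ker, map_mul, map_inv, hy, inv_mul_cancel]
    have h4 : z = y * ((y : Γ)⁻¹ * z) := by group
    rw [h4, H18.CharQuot.char_mul_left hηc (hηM y y.2)]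
    exact hkη _ hk
  have h5 := H4.CenterIndex.degree_dvd_index_of_norm hη (N.comap π) hnorm hη1
  rwa [Subgroup.index_comap_of_surjective N hπ] at h5

/-- **S0887** -/
theorem dvd_index [Fintype G] [Fintype N] {χ : G → ℂ} (hχ : IsIrrCharacter G χ) {ϑ : N → ℂ}
    (hϑ : IsIrrCharacter N ϑ) (hcon : classInner (fun n : N => χ n) ϑ ≠ 0) (c d : ℕ)
    (hc : χ 1 = c) (hd : ϑ 1 = d) : d ∣ c ∧ c / d ∣ N.index := by
  classical
  set T : Subgroup G := H31.Clifford.inertia N ϑ with hT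
  have hNT : N ≤ T := H31.Clifford.le_inertia N (H18.CharBasic.isClassFunction_of_isIrr hϑ)
  letI := Fintype.ofFinite T
  obtain ⟨ψ, hψ, hψϑ, hind, hres⟩ := H4.CenterIndex.exists_corr N hχ hϑ hcon T hNT
    (fun g => Iff.rfl)
  -- transfer to `N.subgroupOf T`
  let N' : Subgroup T := N.subgroupOf T
  have hN'n : N'.Normal := Subgroup.normal_subgroupOf
  letI : Fintype N' := Fintype.ofFinite _
  let j : N' ≃* N := Subgroup.subgroupOfEquivOfLe hNT
  have hj : ∀ x : N', ((j x : N) : G) = ((x : T) : G) := fun x => rfl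
  let ϑ' : N' → ℂ := fun x => ϑ (j x)
  have hϑ' : IsIrrCharacter N' ϑ' := (H18.CharQuot.isIrrCharacter_mulEquiv j).1 hϑ
  obtain ⟨e, he⟩ : ∃ e : ℕ, classInner (H31.Clifford.resH hNT ψ) ϑ = e :=
    H18.CharOrtho.inner_char_natCast
      (H31.Clifford.isCharacter_resH _ _ hNT (H18.CharBasic.isCharacter_of_isIrr hψ))
      (H18.CharBasic.isCharacter_of_isIrr hϑ)
  have hψres : (fun x : N' => ψ x) = fun x => (H31.Clifford.resH hNT ψ) (j x) := rfl
  have hcon' : classInner (fun x : N' => ψ x) ϑ' ≠ 0 := by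
    rw [hψres, H18.CharQuot.classInner_mulEquiv j (H31.Clifford.resH hNT ψ) ϑ]
    exact hψϑ
  have hinv' : ∀ (g : T) (n : N'), ϑ' ⟨g * n * g⁻¹, hN'n.conj_mem (n : T) n.2 g⟩ = ϑ' n := by
    intro g n
    have h1 := H31.Clifford.mem_inertia_iff N |>.1 g.2 (j n)
    exact h1
  have hres' : (fun x : N' => ψ x) = (e : ℂ) • ϑ' := by
    rw [hψres, hres, he]
    rfl
  have h1 := dvd_of_invariant (hN := hN'n) hψ hϑ' hcon' hinv' e hres'
  have h2 : χ 1 = (T.index : ℂ) * ψ 1 := by rw [← hind, H18.CharInd.indFun_one]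
  have h3 : ψ 1 = (e : ℂ) * ϑ 1 := by
    have := congrFun hres' 1
    rw [Pi.smul_apply, smul_eq_mul] at this
    have h4 : ϑ' 1 = ϑ 1 := by
      change ϑ (j 1) = ϑ 1
      rw [map_one]
    rw [h4] at this
    exact this
  rw [h3, hc, hd] at h2
  have h4 : c = T.index * (e * d) := by exact_mod_cast h2
  have hd0 : 0 < d := by
    rcases Nat.eq_zero_or_pos d with h | h
    · exfalso
      apply H18.CharBasic.irr_one_ne_zero hϑ
      rw [hd, h, Nat.cast_zero]
    · exact h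
  refine ⟨⟨T.index * e, by rw [h4]; ring⟩, ?_⟩
  have h5 : c / d = T.index * e := by
    rw [h4, ← mul_assoc]
    exact Nat.mul_div_cancel _ hd0
  rw [h5, ← Subgroup.relIndex_mul_index hNT, mul_comm]
  exact Nat.mul_dvd_mul h1 dvd_rfl

end H19.CharExt
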