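import Cfsg.Agent.Lib.H77.GlaubP
import Cfsg.Agent.Lib.H18.BrauerLoc
import Cfsg.Agent.Lib.H31.FunBasic

/-!
# Invariant characters of normal subgroups of `p`-power index and `p`-elementary subgroups (Dade)
-/

set_option autoImplicit false
set_option linter.unusedSectionVars false
set_option linter.style.haveILetI false

namespace H19.Dade

open Cfsg H18.CharBasic H18.CharOrtho H18.CharInd H18.CharQuot H77.Cong
open scoped ComplexConjugate

universe u v

/-- An invariant constituent with multiplicity prime to `p`. -/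
theorem exists_fixed_constituent {D : Type u} [Group D] [Fintype D] {S : Type v} [Group S]
    {p : ℕ} [hp : Fact p.Prime] (hS : IsPGroup p S) (φ : S →* MulAut D) {α β : D → ℂ}
    (hα : IsCharacter D α) (hβ : IsCharacter D β) (hαi : ∀ s g, α (φ s g) = α g)
    (hβi : ∀ s g, β (φ s g) = β g) {b : ℕ} (hb : classInner β α = b) (hpb : ¬ p ∣ b) :
    ∃ ψ : D → ℂ, IsIrrCharacter D ψ ∧ (∀ s g, ψ (φ s g) = ψ g) ∧
      ∃ m : ℕ, classInner α ψ = m ∧ ¬ p ∣ m := by
  classical
  letI := Fintype.ofFinite (IrrCharacter D)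
  by_contra hcon
  push Not at hcon
  apply hpb
  have h1 : ∀ ψ : IrrCharacter D, ∃ m : ℕ, classInner α (ψ : D → ℂ) = m := fun ψ =>
    inner_char_natCast hα (isCharacter_of_isIrr ψ.2)
  have h2 : ∀ ψ : IrrCharacter D, ∃ m : ℕ, classInner β (ψ : D → ℂ) = m := fun ψ =>
    inner_char_natCast hβ (isCharacter_of_isIrr ψ.2)
  choose c hc using h1
  choose d hd using h2
  have h3 : classInner β α = ∑ ψ : IrrCharacter D, ((d ψ * c ψ : ℕ) : ℂ) := by
    rw [parseval (isClassFunction_of_isCharacter hβ)]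
    apply Finset.sum_congr rfl
    intro ψ _
    rw [hc, hd, Complex.conj_natCast]
    push_cast
    rfl
  have h4 := H77.GlaubP.sum_irr_congP (p := p) φ hS (fun ψ => ((d ψ * c ψ : ℕ) : ℂ)) (by
    intro s ψ ψ' h
    have e1 : (ψ' : D → ℂ) = fun g => (ψ : D → ℂ) (φ s g) := funext h
    have e2 : c ψ' = c ψ := by
      have h5 := hc ψ'
      rw [e1] at h5
      have h6 : classInner α (fun g => (ψ : D → ℂ) (φ s g)) = classInner α (ψ : D → ℂ) := by
        rw [← classInner_mulEquiv (φ s) α (ψ : D → ℂ)]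
        congr 1
        funext g
        exact (hαi s g).symm
      rw [h6, hc] at h5
      exact_mod_cast h5.symm
    have e3 : d ψ' = d ψ := by
      have h5 := hd ψ'
      rw [e1] at h5
      have h6 : classInner β (fun g => (ψ : D → ℂ) (φ s g)) = classInner β (ψ : D → ℂ) := by
        rw [← classInner_mulEquiv (φ s) β (ψ : D → ℂ)]
        congr 1
        funext g
        exact (hβi s g).symm
      rw [h6, hd] at h5
      exact_mod_cast h5.symm
    rw [e2, e3]) (fun ψ => H77.Cong.isIntegral_natCast _)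
  rw [← h3, hb] at h4
  have h5 : ∑ χ : IrrCharacter D with H77.GlaubP.Inv φ χ.1, ((d χ * c χ : ℕ) : ℂ) =
      ((∑ χ : IrrCharacter D with H77.GlaubP.Inv φ χ.1, d χ * c χ : ℕ) : ℂ) := by
    push_cast; rfl
  rw [h5] at h4
  have h6 : p ∣ ∑ χ : IrrCharacter D with H77.GlaubP.Inv φ χ.1, d χ * c χ := by
    apply Finset.dvd_sum
    intro χ hχ
    rw [Finset.mem_filter] at hχ
    exact Dvd.dvd.mul_left (hcon χ χ.2 hχ.2 (c χ) (hc χ)) _
  have h7 : CongP p ((∑ χ : IrrCharacter D with H77.GlaubP.Inv φ χ.1, d χ * c χ : ℕ) : ℂ) 0 :=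
    (congP_nat_zero_iff hp.out.ne_zero).2 h6
  exact (congP_nat_zero_iff hp.out.ne_zero).1 (H77.Cong.trans h4 h7)

variable {G : Type u} [Group G] [Fintype G]

/-- the cardinality formula -/
theorem card_formula (E N : Subgroup G) [N.Normal] :
    Nat.card G * Nat.card (E ⊓ N : Subgroup G) = Nat.card E * Nat.card N * (E ⊔ N).index := by
  have h1 := (N.subgroupOf E).card_mul_index
  have h2 : Nat.card (N.subgroupOf E) = Nat.card (E ⊓ N : Subgroup G) := by
    rw [inf_comm, ← Subgroup.inf_subgroupOf_right]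
    exact Nat.card_congr (Subgroup.subgroupOfEquivOfLe inf_le_right).toEquiv
  have h3 : (N.subgroupOf E).index = N.relIndex E := rfl
  rw [h2, h3] at h1
  rw [← N.card_mul_index, ← Subgroup.relIndex_mul_index (le_sup_right : N ≤ E ⊔ N),
    Subgroup.relIndex_sup_right, ← h1]
  ring

/-- the induced character against invariant functions of a normal subgroup -/
theorem ind_inner (E N : Subgroup G) [hN : N.Normal] [Fintype N]
    [Fintype (E ⊓ N : Subgroup G)] {α θ : N → ℂ}
    (hα : ∀ (g : G) (n : N), α ⟨g * n * g⁻¹, hN.conj_mem (n : G) n.2 g⟩ = α n)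
    (hinv : ∀ (g : G) (n : N), θ ⟨g * n * g⁻¹, hN.conj_mem (n : G) n.2 g⟩ = θ n) (lam : E → ℂ) :
    classInner (fun x : N => indFun E lam x * α x) θ =
      ((E ⊔ N).index : ℂ) * classInner (fun x : (E ⊓ N : Subgroup G) =>
        lam ⟨x, x.2.1⟩ * α ⟨x, x.2.2⟩) (fun x => θ ⟨x, x.2.2⟩) := by
  classical
  -- the sum over `N`
  have h1 : ∀ g : G, ∑ x : N, extendByZero E lam (g⁻¹ * x * g) * α x * conj (θ x) =
      ∑ x : N, extendByZero E lam x * α x * conj (θ x) := by
    intro g
    refine Fintype.sum_equiv (MulAut.conjNormal g⁻¹ : N ≃* N).toEquiv _ _ ?_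
    intro x
    have h2 : (((MulAut.conjNormal g⁻¹ : N ≃* N).toEquiv x : N) : G) = g⁻¹ * x * g := by
      have := MulAut.conjNormal_apply (g⁻¹ : G) x
      rw [inv_inv] at this
      exact this
    have h3 : θ ((MulAut.conjNormal g⁻¹ : N ≃* N).toEquiv x) = θ x := by
      have h4 := hinv g⁻¹ x
      rw [← h4]
      congr 1
    have h3' : α ((MulAut.conjNormal g⁻¹ : N ≃* N).toEquiv x) = α x := by
      have h4 := hα g⁻¹ x
      rw [← h4]
      congr 1
    rw [h2, h3, h3']
  have h2 : ∑ x : N, extendByZero E lam x * α x * conj (θ x) =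
      ∑ x : (E ⊓ N : Subgroup G), lam ⟨x, x.2.1⟩ * α ⟨x, x.2.2⟩ * conj (θ ⟨x, x.2.2⟩) := by
    symm
    apply Finset.sum_bij_ne_zero (fun (x : (E ⊓ N : Subgroup G)) _ _ => (⟨x, x.2.2⟩ : N))
    · intro x _ _; exact Finset.mem_univ _
    · intro x _ _ y _ _ h
      exact Subtype.ext (congrArg (fun z : N => (z : G)) h)
    · intro x _ hx
      have hxE : (x : G) ∈ E := by
        by_contra h
        apply hx
        rw [H31.FunBasic.ext_not_mem E lam h, zero_mul, zero_mul]
      refine ⟨⟨x, hxE, x.2⟩, Finset.mem_univ _, ?_, rfl⟩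
      rw [H31.FunBasic.ext_mem E lam hxE] at hx
      exact hx
    · intro x _ _
      rw [H31.FunBasic.ext_mem E lam x.2.1]
  have h3 : ∑ x : N, indFun E lam x * α x * conj (θ x) =
      (Nat.card E : ℂ)⁻¹ * (Nat.card G : ℂ) *
      ∑ x : (E ⊓ N : Subgroup G), lam ⟨x, x.2.1⟩ * α ⟨x, x.2.2⟩ * conj (θ ⟨x, x.2.2⟩) := by
    have h4 : ∀ x : N, indFun E lam x * α x * conj (θ x) =
        (Nat.card E : ℂ)⁻¹ * ∑ g : G, extendByZero E lam (g⁻¹ * x * g) * α x * conj (θ x) := by
      intro x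
      rw [indFun_apply, mul_assoc, mul_assoc, Finset.sum_mul]
      congr 1
      apply Finset.sum_congr rfl
      intro g _
      ring
    rw [Finset.sum_congr rfl (fun x _ => h4 x), ← Finset.mul_sum, Finset.sum_comm,
      Finset.sum_congr rfl (fun g _ => h1 g), Finset.sum_const, h2, nsmul_eq_mul,
      Finset.card_univ, ← Nat.card_eq_fintype_card, mul_assoc]
  simp only [classInner]
  rw [h3]
  have h4 := card_formula E N
  have hE : (Nat.card E : ℂ) ≠ 0 := by exact_mod_cast (Nat.card_pos (α := E)).ne'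
  have hNc : (Nat.card N : ℂ) ≠ 0 := by exact_mod_cast (Nat.card_pos (α := N)).ne'
  have hD : (Nat.card (E ⊓ N : Subgroup G) : ℂ) ≠ 0 := by
    exact_mod_cast (Nat.card_pos (α := (E ⊓ N : Subgroup G))).ne'
  have h5 : (Nat.card G : ℂ) * Nat.card (E ⊓ N : Subgroup G) =
      Nat.card E * Nat.card N * (E ⊔ N).index := by exact_mod_cast h4
  have h6 : (Nat.card N : ℂ)⁻¹ * ((Nat.card E : ℂ)⁻¹ * (Nat.card G : ℂ)) =
      ((E ⊔ N).index : ℂ) * (Nat.card (E ⊓ N : Subgroup G) : ℂ)⁻¹ := by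
    field_simp
    rw [h5]; ring
  rw [← mul_assoc, h6, mul_assoc]

end H19.Dade
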