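import Cfsg.Agent.Lib.H19.Dade1
import Cfsg.Agent.Lib.H4.Brauer

/-!
# Invariant characters of normal subgroups of `p`-power index and `p`-elementary subgroups (Dade)
-/

set_option autoImplicit false
set_option linter.unusedSectionVars false
set_option linter.style.haveILetI false

namespace H19.Dade

open Cfsg H18.CharBasic H18.CharOrtho H18.CharInd H18.CharQuot H77.Cong
open scoped ComplexConjugate

universe u v

variable {G : Type u} [Group G] [Fintype G]

theorem exists_elem {p : ℕ} (hp : p.Prime) (N : Subgroup G) [hN : N.Normal]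
    (hind : ∃ k, N.index = p ^ k) {θ : N → ℂ} (hθ : IsIrrCharacter N θ)
    (hinv : ∀ (g : G) (n : N), θ ⟨g * n * g⁻¹, hN.conj_mem (n : G) n.2 g⟩ = θ n) :
    ∃ (E : Subgroup G) (lam : E → ℂ) (_ : Fintype (E ⊓ N : Subgroup G)) (b : ℕ),
      IsElementary p E ∧ IsCharacter E lam ∧ E ⊔ N = ⊤ ∧ ¬ p ∣ b ∧
      classInner (fun x : (E ⊓ N : Subgroup G) => lam ⟨x, x.2.1⟩ * θ ⟨x, x.2.2⟩)
        (fun x => θ ⟨x, x.2.2⟩) = b := by
  classical
  letI := Fintype.ofFinite N
  obtain ⟨k, hk⟩ := hind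
  by_contra hcon
  push Not at hcon
  have hθc := isCharacter_of_isIrr hθ
  have key : ∀ f ∈ H18.BrauerLoc.EL G p, ∃ z : ℤ,
      classInner (fun x : N => f x * θ x) θ = (p : ℂ) * z := by
    intro f hf
    induction hf using AddSubgroup.closure_induction with
    | mem f hf =>
      obtain ⟨E, φ, hE, hφ, rfl⟩ := hf
      letI : Fintype (E ⊓ N : Subgroup G) := Fintype.ofFinite _
      rw [ind_inner E N hinv hinv φ]
      have h1 : IsCharacter (E ⊓ N : Subgroup G) (fun x => φ ⟨x, x.2.1⟩) :=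
        isCharacter_comp (Subgroup.inclusion (inf_le_left : E ⊓ N ≤ E)) hφ
      have h2 : IsCharacter (E ⊓ N : Subgroup G) (fun x => θ ⟨x, x.2.2⟩) :=
        isCharacter_comp (Subgroup.inclusion (inf_le_right : E ⊓ N ≤ N)) hθc
      obtain ⟨b, hb⟩ := inner_char_natCast (isCharacter_mul h1 h2) h2
      have hb' : classInner (fun x : (E ⊓ N : Subgroup G) => φ ⟨x, x.2.1⟩ * θ ⟨x, x.2.2⟩)
        (fun x => θ ⟨x, x.2.2⟩) = b := hb
      rw [hb']
      by_cases htop : E ⊔ N = ⊤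
      · by_cases hpb : p ∣ b
        · obtain ⟨c, rfl⟩ := hpb
          refine ⟨c, ?_⟩
          rw [htop, Subgroup.index_top]
          push_cast
          ring
        · exact absurd hb' (hcon E φ inferInstance b hE hφ htop hpb)
      · have h3 : (E ⊔ N).index ∣ p ^ k := by
          rw [← hk]
          exact Subgroup.index_dvd_of_le le_sup_right
        obtain ⟨j, -, hj⟩ := (Nat.dvd_prime_pow hp).1 h3
        have hj0 : j ≠ 0 := by
          rintro rfl
          rw [pow_zero] at hj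
          exact htop (Subgroup.index_eq_one.1 hj)
        obtain ⟨i, rfl⟩ := Nat.exists_eq_succ_of_ne_zero hj0
        refine ⟨(p ^ i * b : ℕ), ?_⟩
        rw [hj, Nat.succ_eq_add_one]
        push_cast
        ring
    | zero => exact ⟨0, by simp [classInner]⟩
    | add f g _ _ hf hg =>
      obtain ⟨a, ha⟩ := hf
      obtain ⟨b, hb⟩ := hg
      refine ⟨a + b, ?_⟩
      have h1 : (fun x : N => (f + g) x * θ x) = (fun x : N => f x * θ x) +
          (fun x : N => g x * θ x) := by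
        funext x
        simp only [Pi.add_apply]
        ring
      rw [h1, H18.CharOrtho.inner_add_left, ha, hb]
      push_cast
      ring
    | neg f _ hf =>
      obtain ⟨a, ha⟩ := hf
      refine ⟨-a, ?_⟩
      have h1 : (fun x : N => (-f) x * θ x) = -(fun x : N => f x * θ x) := by
        funext x
        simp only [Pi.neg_apply]
        ring
      rw [h1, H18.CharOrtho.inner_neg_left, ha]
      push_cast
      ring
  obtain ⟨m, hm, hmem⟩ := H18.BrauerLoc.brauer_local G hp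
  obtain ⟨z, hz⟩ := key _ hmem
  have h1 : (fun x : N => (fun _ : G => (m : ℂ)) x * θ x) = (m : ℂ) • θ := by
    funext x; rfl
  rw [h1, H18.CharOrtho.inner_smul_left, inner_irr_self hθ, mul_one] at hz
  apply hm
  exact ⟨z, by exact_mod_cast hz⟩

omit [Fintype G] in
/-- conjugation action on `E ⊓ N` -/
def cjD (E N : Subgroup G) [hN : N.Normal] : E →* MulAut (E ⊓ N : Subgroup G) where
  toFun s :=
    { toFun := fun x => ⟨s * x * (s : G)⁻¹, E.mul_mem (E.mul_mem s.2 x.2.1) (E.inv_mem s.2),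
        hN.conj_mem _ x.2.2 s⟩
      invFun := fun x => ⟨(s : G)⁻¹ * x * s, E.mul_mem (E.mul_mem (E.inv_mem s.2) x.2.1) s.2, by
        have := hN.conj_mem _ x.2.2 (s : G)⁻¹
        rwa [inv_inv] at this⟩
      left_inv := fun x => Subtype.ext (by simp [mul_assoc])
      right_inv := fun x => Subtype.ext (by simp [mul_assoc])
      map_mul' := fun x y => Subtype.ext (by simp [mul_assoc]) }
  map_one' := by ext x; simp
  map_mul' := fun a b => by ext x; simp [mul_assoc]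

omit [Fintype G] in
theorem cjD_coe (E N : Subgroup G) [hN : N.Normal] (s : E) (x : (E ⊓ N : Subgroup G)) :
    ((cjD E N s x : (E ⊓ N : Subgroup G)) : G) = s * x * (s : G)⁻¹ := rfl

/-- structure of an elementary subgroup supplementing `N` -/
theorem elem_decomp {p : ℕ} [hp : Fact p.Prime] (N : Subgroup G) [hN : N.Normal]
    (hind : ∃ k, N.index = p ^ k) (E : Subgroup G) {x : E} (hx : x ∈ Subgroup.center E)
    (hcop : Nat.Coprime (orderOf x) p) (hidx : ∃ k, (Subgroup.zpowers x).index = p ^ k)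
    (P : Sylow p E) :
    (x : G) ∈ N ∧ ∀ g : E, ∃ z ∈ Subgroup.zpowers x, ∃ s ∈ (P : Subgroup E), g = z * s := by
  obtain ⟨k, hk⟩ := hind
  obtain ⟨l, hl⟩ := hidx
  constructor
  · have h1 : (x : G) ^ (p ^ k) ∈ N := by
      rw [← hk]; exact N.pow_index_mem x
    have h2 : (x : G) ^ (orderOf x) ∈ N := by
      have : (x : G) ^ (orderOf x) = 1 := congrArg Subtype.val (pow_orderOf_eq_one x)
      rw [this]; exact N.one_mem
    have h3 : Nat.gcd (p ^ k) (orderOf x) = 1 := (hcop.symm).pow_left k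
    have h4 := Nat.gcd_eq_gcd_ab (p ^ k) (orderOf x)
    rw [h3] at h4
    have h5 : (x : G) = ((x : G) ^ (p ^ k)) ^ (Nat.gcdA (p ^ k) (orderOf x)) *
        ((x : G) ^ (orderOf x)) ^ (Nat.gcdB (p ^ k) (orderOf x)) := by
      rw [← zpow_natCast, ← zpow_natCast, ← zpow_mul, ← zpow_mul, ← zpow_add, ← h4]
      simp
    rw [h5]
    exact N.mul_mem (N.zpow_mem h1 _) (N.zpow_mem h2 _)
  · intro g
    have hle : Subgroup.zpowers x ≤ Subgroup.center E := by rwa [Subgroup.zpowers_le]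
    haveI hZn : (Subgroup.zpowers x).Normal := H4.Brauer.normal_of_le_center' hle
    have htop : Subgroup.zpowers x ⊔ (P : Subgroup E) = ⊤ := by
      have h1 : (Subgroup.zpowers x ⊔ (P : Subgroup E)).index ∣ p ^ l := by
        rw [← hl]
        exact Subgroup.index_dvd_of_le le_sup_left
      have h2 : (Subgroup.zpowers x ⊔ (P : Subgroup E)).index ∣ (P : Subgroup E).index :=
        Subgroup.index_dvd_of_le le_sup_right
      have h3 : Nat.Coprime (p ^ l) (P : Subgroup E).index :=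
        ((Nat.Prime.coprime_iff_not_dvd hp.out).2 P.not_dvd_index).pow_left l
      exact Subgroup.index_eq_one.1 (Nat.eq_one_of_dvd_coprimes h3 h1 h2)
    have hg : g ∈ ((Subgroup.zpowers x ⊔ (P : Subgroup E) : Subgroup E) : Set E) := by
      rw [htop]; trivial
    rw [Subgroup.normal_mul] at hg
    obtain ⟨z, hz, s, hs, hzs⟩ := hg
    exact ⟨z, hz, s, hs, hzs.symm⟩

/-- **Dade's theorem** -/
theorem dade {p : ℕ} (hp : p.Prime) (N : Subgroup G) [hN : N.Normal]
    (hind : ∃ k, N.index = p ^ k) {θ : N → ℂ} (hθ : IsIrrCharacter N θ)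
    (hinv : ∀ (g : G) (n : N), θ ⟨g * n * g⁻¹, hN.conj_mem (n : G) n.2 g⟩ = θ n) :
    ∃ (E : Subgroup G) (_ : Fintype (E ⊓ N : Subgroup G)) (φ : (E ⊓ N : Subgroup G) → ℂ),
      IsElementary p E ∧ E ⊔ N = ⊤ ∧ IsIrrCharacter (E ⊓ N : Subgroup G) φ ∧
      (∀ (g : G) (hg : g ∈ E) (x : (E ⊓ N : Subgroup G)), φ ⟨g * x * g⁻¹,
        ⟨(E.mul_mem (E.mul_mem hg x.2.1) (E.inv_mem hg)), hN.conj_mem (x : G) x.2.2 g⟩⟩ = φ x) ∧
      ∃ m : ℕ, ¬ p ∣ m ∧
        classInner (fun x : (E ⊓ N : Subgroup G) => θ ⟨x, x.2.2⟩) φ = m := by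
  classical
  haveI : Fact p.Prime := ⟨hp⟩
  obtain ⟨E, lam, hF, b, hE, hlam, htop, hpb, hb⟩ := exists_elem hp N hind hθ hinv
  have hθc := isCharacter_of_isIrr hθ
  have h1 : IsCharacter (E ⊓ N : Subgroup G) (fun x => lam ⟨x, x.2.1⟩) :=
    isCharacter_comp (Subgroup.inclusion (inf_le_left : E ⊓ N ≤ E)) hlam
  have h2 : IsCharacter (E ⊓ N : Subgroup G) (fun x => θ ⟨x, x.2.2⟩) :=
    isCharacter_comp (Subgroup.inclusion (inf_le_right : E ⊓ N ≤ N)) hθc
  obtain ⟨x, hx, hcop, hidx⟩ := id hE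
  obtain ⟨P⟩ : Nonempty (Sylow p E) := inferInstance
  obtain ⟨hxN, hdec⟩ := elem_decomp N hind E hx hcop hidx P
  have hθi : ∀ (s : E) (y : (E ⊓ N : Subgroup G)),
      θ ⟨(cjD E N s y : (E ⊓ N : Subgroup G)), (cjD E N s y).2.2⟩ = θ ⟨y, y.2.2⟩ :=
    fun s y => hinv s ⟨y, y.2.2⟩
  have hlami : ∀ (s : E) (y : (E ⊓ N : Subgroup G)),
      lam ⟨(cjD E N s y : (E ⊓ N : Subgroup G)), (cjD E N s y).2.1⟩ = lam ⟨y, y.2.1⟩ :=
    fun s y => isClassFunction_of_isCharacter hlam ⟨y, y.2.1⟩ s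
  obtain ⟨ψ, hψ, hψi, m, hm, hpm⟩ := exists_fixed_constituent (p := p) P.isPGroup'
    ((cjD E N).comp (P : Subgroup E).subtype) h2 (isCharacter_mul h1 h2)
    (fun s y => hθi s y) (fun s y => by
      simp only [Pi.mul_apply]
      congr 1
      · exact hlami s y
      · exact hθi s y) hb hpb
  refine ⟨E, hF, ψ, hE, htop, hψ, ?_, m, hpm, hm⟩
  intro g hg y
  obtain ⟨z, ⟨j, rfl⟩, s, hs, hzs⟩ := hdec ⟨g, hg⟩
  have hg' : g = (x : G) ^ j * (s : G) := by
    have := congrArg Subtype.val hzs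
    simpa using this
  have hzD : (x : G) ^ j ∈ E ⊓ N := ⟨E.zpow_mem x.2 j, N.zpow_mem hxN j⟩
  have h3 : (⟨g * y * g⁻¹, ⟨(E.mul_mem (E.mul_mem hg y.2.1) (E.inv_mem hg)),
      hN.conj_mem (y : G) y.2.2 g⟩⟩ : (E ⊓ N : Subgroup G)) =
      ⟨(x : G) ^ j, hzD⟩ * cjD E N s y * ⟨(x : G) ^ j, hzD⟩⁻¹ := by
    apply Subtype.ext
    change g * y * g⁻¹ = (x : G) ^ j * (s * y * (s : G)⁻¹) * ((x : G) ^ j)⁻¹
    rw [hg']
    group
  rw [h3, isClassFunction_of_isIrr hψ]
  exact hψi ⟨s, hs⟩ y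

end H19.Dade
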