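import Cfsg.Agent.Lib.H19.Dade2
import Cfsg.Agent.Lib.H19.FullRam
import Cfsg.Agent.Lib.H19.CharExt

/-!
# Extension of invariant characters from normal subgroups of `p`-power index (Dade)
-/

set_option autoImplicit false
set_option linter.unusedSectionVars false
set_option linter.style.haveILetI false

namespace H19.Dade

open Cfsg H18.CharBasic H18.CharOrtho H18.CharInd H18.CharQuot
open scoped ComplexConjugate

universe u v

variable {G : Type u} [Group G] [Fintype G]

/-- If `φ ∈ Irr(E ∩ N)` has an extension to `E` and `p ∤ [θ_{E ∩ N}, φ]` then `θ` extends. -/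
theorem extends_of_supplement {p : ℕ} (hp : p.Prime) (N : Subgroup G) [hN : N.Normal] [Fintype N]
    (hind : ∃ k, N.index = p ^ k) {θ : N → ℂ} (hθ : IsIrrCharacter N θ)
    (hinv : ∀ (g : G) (n : N), θ ⟨g * n * g⁻¹, hN.conj_mem (n : G) n.2 g⟩ = θ n)
    (E : Subgroup G) [Fintype (E ⊓ N : Subgroup G)] (htop : E ⊔ N = ⊤) {ν : E → ℂ}
    (hν : IsCharacter E ν) {m : ℕ} (hpm : ¬ p ∣ m)
    (hm : classInner (fun x : (E ⊓ N : Subgroup G) => θ ⟨x, x.2.2⟩) (fun x => ν ⟨x, x.2.1⟩) = m) :
    ∃ χ : G → ℂ, IsIrrCharacter G χ ∧ ∀ n : N, χ n = θ n := by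
  classical
  letI := Fintype.ofFinite (IrrCharacter G)
  have h1 := ind_inner E N (α := fun _ => 1) (fun _ _ => rfl) hinv ν
  rw [htop, Subgroup.index_top, Nat.cast_one, one_mul] at h1
  simp only [mul_one] at h1
  have h2 : classInner (fun x : N => indFun E ν x) θ = m := by
    rw [h1, ← H18.CharOrtho.inner_conj_symm, hm, Complex.conj_natCast]
  have hindc := isCharacter_ind E hν
  have h3 : ∀ χ : IrrCharacter G, ∃ a : ℕ, classInner (indFun E ν) (χ : G → ℂ) = a := fun χ =>
    inner_char_natCast hindc (isCharacter_of_isIrr χ.2)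
  have h4 : ∀ χ : IrrCharacter G, ∃ a : ℕ, classInner (fun x : N => (χ : G → ℂ) x) θ = a :=
    fun χ => inner_char_natCast (isCharacter_restrict N (isCharacter_of_isIrr χ.2))
      (isCharacter_of_isIrr hθ)
  choose a ha using h3
  choose c hc using h4
  have h5 : classInner (fun x : N => indFun E ν x) θ = ((∑ χ : IrrCharacter G, a χ * c χ : ℕ) : ℂ) := by
    have h6 : (fun x : N => indFun E ν x) =
        ∑ χ : IrrCharacter G, (a χ : ℂ) • (fun x : N => (χ : G → ℂ) x) := by
      funext x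
      have := congrFun (mem_classFun_expand (isClassFunction_of_isCharacter hindc)) x
      rw [this, Finset.sum_apply, Finset.sum_apply]
      apply Finset.sum_congr rfl
      intro χ _
      rw [Pi.smul_apply, Pi.smul_apply, ha]
    rw [h6, inner_sum_left]
    push_cast
    apply Finset.sum_congr rfl
    intro χ _
    rw [H18.CharOrtho.inner_smul_left, hc]
  rw [h2] at h5
  have h6 : m = ∑ χ : IrrCharacter G, a χ * c χ := by exact_mod_cast h5
  obtain ⟨χ, hχ⟩ : ∃ χ : IrrCharacter G, ¬ p ∣ c χ := by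
    by_contra hcon
    push Not at hcon
    apply hpm
    rw [h6]
    exact Finset.dvd_sum (fun χ _ => Dvd.dvd.mul_left (hcon χ) _)
  have hne : classInner (fun x : N => (χ : G → ℂ) x) θ ≠ 0 := by
    rw [hc]
    intro h
    apply hχ
    have : c χ = 0 := by exact_mod_cast h
    rw [this]
    exact dvd_zero p
  obtain ⟨e, he0, he, hee⟩ := H19.FullRam.restrict_inv N χ.2 hθ hne hinv
  have hec : e = c χ := by
    rw [hc] at hee
    exact_mod_cast hee.symm
  obtain ⟨d, hd⟩ := exists_degree (isCharacter_of_isIrr χ.2)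
  obtain ⟨t, ht⟩ := exists_degree (isCharacter_of_isIrr hθ)
  have hde : d = e * t := by
    have h7 := congrFun he 1
    rw [Pi.smul_apply, smul_eq_mul, ht] at h7
    have h8 : (χ : G → ℂ) ((1 : N) : G) = d := hd
    rw [h8] at h7
    exact_mod_cast h7
  have ht0 : 0 < t := by
    rcases Nat.eq_zero_or_pos t with h | h
    · exfalso
      apply irr_one_ne_zero hθ
      rw [ht, h]; simp
    · exact h
  obtain ⟨-, h7⟩ := H19.CharExt.dvd_index χ.2 hθ hne d t hd ht
  rw [hde, Nat.mul_div_cancel _ ht0] at h7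
  obtain ⟨k, hk⟩ := hind
  rw [hk] at h7
  obtain ⟨j, -, hj⟩ := (Nat.dvd_prime_pow hp).1 h7
  have hj0 : j = 0 := by
    by_contra h
    apply hχ
    rw [← hec, hj]
    exact dvd_pow_self p h
  rw [hj0, pow_zero] at hj
  refine ⟨χ, χ.2, fun n => ?_⟩
  have h8 := congrFun he n
  rw [hj, Nat.cast_one, one_smul] at h8
  exact h8

/-- linear characters of subgroups of abelian groups extend -/
theorem exists_linear_ext {A : Type u} [Group A] [Fintype A] (hA : ∀ a b : A, a * b = b * a)
    (B : Subgroup A) (δ : B →* ℂˣ) : ∃ ψ : A → ℂ, IsCharacter A ψ ∧ ψ 1 = 1 ∧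
      ∀ b : B, ψ b = δ b := by
  classical
  letI := Fintype.ofFinite B
  have hδ := isIrrCharacter_of_hom δ
  obtain ⟨ψ, hψ, hne⟩ := exists_over B hδ
  have h1 := degree_one_of_comm hA hψ
  refine ⟨ψ, isCharacter_of_isIrr hψ, h1, ?_⟩
  obtain ⟨f, rfl⟩ := exists_hom_of_degree_one (isCharacter_of_isIrr hψ) h1
  have h2 : IsIrrCharacter B (fun b : B => ((f b : ℂˣ) : ℂ)) :=
    isIrrCharacter_of_hom (f.comp B.subtype)
  by_contra hcon
  apply hne
  apply inner_irr_ne h2 hδ
  intro h
  apply hcon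
  intro b
  exact congrFun h b

end H19.Dade
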