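import Cfsg.Agent.Lib.H19.Dade3

/-!
# Extension of invariant characters from normal subgroups of `p`-power index, Sylow condition
-/

set_option autoImplicit false
set_option linter.unusedSectionVars false
set_option linter.style.haveILetI false

namespace H19.Dade

open Cfsg H18.CharBasic H18.CharOrtho H18.CharInd H18.CharQuot
open scoped ComplexConjugate

universe u v

variable {G : Type u} [Group G] [Fintype G]

theorem ext_of_sylow {p : ℕ} [hp : Fact p.Prime] (N : Subgroup G) [hN : N.Normal]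
    (hind : ∃ k, N.index = p ^ k) (P : Sylow p G)
    (hcent : ∀ x ∈ (P : Subgroup G) ⊓ N, ∀ y ∈ (P : Subgroup G), x * y = y * x)
    (hlin : ∀ lam : ↥((P : Subgroup G) ⊓ N) → ℂ, IsCharacter ↥((P : Subgroup G) ⊓ N) lam →
      lam 1 = 1 → ∃ μ : ↥(P : Subgroup G) → ℂ, IsCharacter ↥(P : Subgroup G) μ ∧ μ 1 = 1 ∧
      ∀ x : ↥((P : Subgroup G) ⊓ N), μ ⟨(x : G), x.2.1⟩ = lam x) {θ : N → ℂ}
    (hθ : IsIrrCharacter N θ)
    (hinv : ∀ (g : G) (n : N), θ ⟨g * n * g⁻¹, hN.conj_mem (n : G) n.2 g⟩ = θ n) :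
    ∃ χ : G → ℂ, IsIrrCharacter G χ ∧ ∀ n : N, χ n = θ n := by
  classical
  letI := Fintype.ofFinite N
  obtain ⟨E, hF, φ, hE, htop, hφ, -, m, hpm, hm⟩ := dade hp.out N hind hθ hinv
  obtain ⟨x, hx, hcop, hidx⟩ := hE
  obtain ⟨P₁⟩ : Nonempty (Sylow p E) := inferInstance
  obtain ⟨hxN, hdec⟩ := elem_decomp N hind E hx hcop hidx P₁
  let P1 : Subgroup G := (P₁ : Subgroup E).map E.subtype
  have hP1 : IsPGroup p P1 := P₁.isPGroup'.map E.subtype
  obtain ⟨Q, hQ⟩ := hP1.exists_le_sylow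
  obtain ⟨g, hg⟩ := MulAction.exists_smul_eq G P Q
  have hconj : ∀ s ∈ P1, g⁻¹ * s * g ∈ (P : Subgroup G) := by
    intro s hs
    have h1 := hQ hs
    rw [← hg] at h1
    obtain ⟨t, ht, hts⟩ := h1
    have h2 : g * t * g⁻¹ = s := hts
    rw [← h2]
    have h3 : g⁻¹ * (g * t * g⁻¹) * g = t := by group
    rw [h3]
    exact ht
  have hzpow : ∀ z ∈ Subgroup.zpowers x, ∀ w : E, z * w = w * z := by
    intro z hz w
    have h1 : z ∈ Subgroup.center E := by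
      have : Subgroup.zpowers x ≤ Subgroup.center E := by rwa [Subgroup.zpowers_le]
      exact this hz
    exact (Subgroup.mem_center_iff.1 h1 w).symm
  have hzN : ∀ z ∈ Subgroup.zpowers x, (z : G) ∈ N := by
    rintro z ⟨j, rfl⟩
    exact N.zpow_mem hxN j
  -- elements of `P1 ∩ N` commute
  have hsc : ∀ s ∈ P1, s ∈ N → ∀ t ∈ P1, s * t = t * s := by
    intro s hs hsN t ht
    have h1 := hcent (g⁻¹ * s * g) ⟨hconj s hs, by simpa using hN.conj_mem s hsN g⁻¹⟩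
      (g⁻¹ * t * g) (hconj t ht)
    have h2 : g * (g⁻¹ * s * g * (g⁻¹ * t * g)) * g⁻¹ = s * t := by group
    have h3 : g * (g⁻¹ * t * g * (g⁻¹ * s * g)) * g⁻¹ = t * s := by group
    rw [← h2, ← h3, h1]
  have hDdec : ∀ d : (E ⊓ N : Subgroup G), ∃ z ∈ Subgroup.zpowers x, ∃ s ∈ (P₁ : Subgroup E),
      (⟨d, d.2.1⟩ : E) = z * s ∧ (s : G) ∈ N := by
    intro d
    obtain ⟨z, hz, s, hs, hzs⟩ := hdec ⟨d, d.2.1⟩
    refine ⟨z, hz, s, hs, hzs, ?_⟩
    have h1 : (d : G) = z * s := congrArg Subtype.val hzs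
    have h2 : (s : G) = (z : G)⁻¹ * d := by rw [h1]; group
    rw [h2]
    exact N.mul_mem (N.inv_mem (hzN z hz)) d.2.2
  have hDcomm : ∀ a b : (E ⊓ N : Subgroup G), a * b = b * a := by
    intro a b
    obtain ⟨z, hz, s, hs, ha, hsN⟩ := hDdec a
    obtain ⟨z', hz', s', hs', hb, hsN'⟩ := hDdec b
    apply Subtype.ext
    have h1 : (⟨a, a.2.1⟩ : E) * ⟨b, b.2.1⟩ = ⟨b, b.2.1⟩ * ⟨a, a.2.1⟩ := by
      have h2 : s * s' = s' * s := Subtype.ext
        (hsc s ⟨s, hs, rfl⟩ hsN s' ⟨s', hs', rfl⟩)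
      rw [ha, hb]
      calc z * s * (z' * s') = z * (s * z') * s' := by group
        _ = z * (z' * s) * s' := by rw [hzpow z' hz' s]
        _ = (z * z') * (s * s') := by group
        _ = (z' * z) * (s' * s) := by rw [hzpow z hz z', h2]
        _ = z' * (z * s') * s := by group
        _ = z' * (s' * z) * s := by rw [hzpow z hz s']
        _ = z' * s' * (z * s) := by group
    exact congrArg (fun w : E => (w : G)) h1
  obtain ⟨f, rfl⟩ := exists_hom_of_isIrr_of_comm hDcomm hφ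
  -- the extension to `P`
  let A : Subgroup G := (P : Subgroup G) ⊓ N
  letI : Fintype A := Fintype.ofFinite A
  have hA : ∀ a b : A, a * b = b * a := fun a b => Subtype.ext (hcent a a.2 b b.2.1)
  let B : Subgroup A := P1.comap ((MulAut.conj g).toMonoidHom.comp A.subtype)
  have hB : ∀ b : B, g * ((b : A) : G) * g⁻¹ ∈ P1 := fun b => b.2
  have hP1E : P1 ≤ E := by
    rintro _ ⟨s, -, rfl⟩
    exact s.2
  let κ : B →* (E ⊓ N : Subgroup G) := MonoidHom.mk' (fun b =>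
    ⟨g * ((b : A) : G) * g⁻¹, hP1E (hB b), hN.conj_mem _ (b : A).2.2 g⟩) (by
      intro a b
      apply Subtype.ext
      change g * (((a : A) : G) * ((b : A) : G)) * g⁻¹ = g * ((a : A) : G) * g⁻¹ *
        (g * ((b : A) : G) * g⁻¹)
      group)
  obtain ⟨ψ, hψ, hψ1, hψB⟩ := exists_linear_ext hA B (f.comp κ)
  obtain ⟨μ, hμ, hμ1, hμψ⟩ := hlin ψ hψ hψ1
  obtain ⟨h, rfl⟩ := exists_hom_of_degree_one hμ hμ1
  -- the exponents
  obtain ⟨k₁, hk₁⟩ := IsPGroup.iff_card.1 P₁.isPGroup'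
  have hcop2 : Nat.Coprime (Nat.card P₁) (orderOf x) := by
    have : Nat.card P₁ = p ^ k₁ := hk₁
    rw [this]
    exact (hcop.symm).pow_left k₁
  obtain ⟨e, he1, he0⟩ := Nat.chineseRemainder hcop2 1 0
  obtain ⟨e', he0', he1'⟩ := Nat.chineseRemainder hcop2 0 1
  have hze : ∀ z ∈ Subgroup.zpowers x, z ^ e = 1 ∧ z ^ e' = z := by
    rintro z ⟨j, rfl⟩
    constructor
    · rw [← zpow_natCast, ← zpow_mul, mul_comm, zpow_mul, zpow_natCast]
      rw [orderOf_dvd_iff_pow_eq_one.1 ((Nat.modEq_zero_iff_dvd).1 he0), one_zpow]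
    · rw [← zpow_natCast, ← zpow_mul, mul_comm, zpow_mul, zpow_natCast,
        pow_eq_pow_iff_modEq.2 he1', pow_one]
  have hse : ∀ s ∈ (P₁ : Subgroup E), s ^ e = s ∧ s ^ e' = 1 := by
    intro s hs
    have h1 : orderOf s ∣ Nat.card P₁ := by
      have := orderOf_dvd_natCard (⟨s, hs⟩ : P₁)
      rwa [Subgroup.orderOf_mk] at this
    constructor
    · rw [pow_eq_pow_iff_modEq.2 (he1.of_dvd h1), pow_one]
    · exact orderOf_dvd_iff_pow_eq_one.1 (h1.trans ((Nat.modEq_zero_iff_dvd).1 he0'))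
  have hpow : ∀ z ∈ Subgroup.zpowers x, ∀ s ∈ (P₁ : Subgroup E),
      (z * s) ^ e = s ∧ (z * s) ^ e' = z := by
    intro z hz s hs
    have hc : Commute z s := hzpow z hz s
    rw [hc.mul_pow, hc.mul_pow, (hze z hz).1, (hze z hz).2, (hse s hs).1, (hse s hs).2]
    simp
  have hmul : ∀ w w' : E, (w * w') ^ e = w ^ e * w' ^ e ∧ (w * w') ^ e' = w ^ e' * w' ^ e' := by
    intro w w'
    obtain ⟨z, hz, s, hs, rfl⟩ := hdec w
    obtain ⟨z', hz', s', hs', rfl⟩ := hdec w'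
    have h1 : z * s * (z' * s') = (z * z') * (s * s') := by
      calc z * s * (z' * s') = z * (s * z') * s' := by group
        _ = z * (z' * s) * s' := by rw [hzpow z' hz' s]
        _ = (z * z') * (s * s') := by group
    rw [h1, (hpow _ (Subgroup.mul_mem _ hz hz') _ (Subgroup.mul_mem _ hs hs')).1,
      (hpow _ (Subgroup.mul_mem _ hz hz') _ (Subgroup.mul_mem _ hs hs')).2,
      (hpow z hz s hs).1, (hpow z' hz' s' hs').1, (hpow z hz s hs).2, (hpow z' hz' s' hs').2]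
    exact ⟨rfl, rfl⟩
  let ez : E →* (E ⊓ N : Subgroup G) := MonoidHom.mk' (fun w => ⟨((w ^ e' : E) : G), (w ^ e').2, by
    obtain ⟨z, hz, s, hs, rfl⟩ := hdec w
    rw [(hpow z hz s hs).2]
    exact hzN z hz⟩) (by
      intro a b
      apply Subtype.ext
      exact congrArg (fun w : E => (w : G)) (hmul a b).2)
  let es : E →* (P : Subgroup G) := MonoidHom.mk' (fun w => ⟨g⁻¹ * ((w ^ e : E) : G) * g, by
    obtain ⟨z, hz, s, hs, rfl⟩ := hdec w
    rw [(hpow z hz s hs).1]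
    exact hconj s ⟨s, hs, rfl⟩⟩) (by
      intro a b
      apply Subtype.ext
      change g⁻¹ * (((a * b) ^ e : E) : G) * g = (g⁻¹ * ((a ^ e : E) : G) * g) *
        (g⁻¹ * ((b ^ e : E) : G) * g)
      rw [(hmul a b).1]
      push_cast
      group)
  let ν : E →* ℂˣ := (f.comp ez) * (h.comp es)
  have hνφ : ∀ d : (E ⊓ N : Subgroup G), ν ⟨d, d.2.1⟩ = f d := by
    intro d
    obtain ⟨z, hz, s, hs, hd, hsN⟩ := hDdec d
    have h1 : ν ⟨d, d.2.1⟩ = f (ez ⟨d, d.2.1⟩) * h (es ⟨d, d.2.1⟩) := rfl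
    have h2 : ez ⟨d, d.2.1⟩ = ⟨z, z.2, hzN z hz⟩ := by
      apply Subtype.ext
      change (((⟨d, d.2.1⟩ : E) ^ e' : E) : G) = z
      rw [hd, (hpow z hz s hs).2]
    have h3 : (es ⟨d, d.2.1⟩ : (P : Subgroup G)) = ⟨g⁻¹ * s * g, hconj s ⟨s, hs, rfl⟩⟩ := by
      apply Subtype.ext
      change g⁻¹ * (((⟨d, d.2.1⟩ : E) ^ e : E) : G) * g = g⁻¹ * s * g
      rw [hd, (hpow z hz s hs).1]
    have hsA : g⁻¹ * (s : G) * g ∈ A := ⟨hconj s ⟨s, hs, rfl⟩, by
      simpa using hN.conj_mem _ hsN g⁻¹⟩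
    have hsB : (⟨g⁻¹ * (s : G) * g, hsA⟩ : A) ∈ B := by
      change g * (g⁻¹ * (s : G) * g) * g⁻¹ ∈ P1
      have : g * (g⁻¹ * (s : G) * g) * g⁻¹ = s := by group
      rw [this]
      exact ⟨s, hs, rfl⟩
    have h4 : h ⟨g⁻¹ * (s : G) * g, hsA.1⟩ = f ⟨s, s.2, hsN⟩ := by
      apply Units.ext
      have h5 := hμψ ⟨g⁻¹ * (s : G) * g, hsA⟩
      have h6 := hψB ⟨⟨g⁻¹ * (s : G) * g, hsA⟩, hsB⟩
      have h7 : κ ⟨⟨g⁻¹ * (s : G) * g, hsA⟩, hsB⟩ = ⟨s, s.2, hsN⟩ := by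
        apply Subtype.ext
        change g * (g⁻¹ * (s : G) * g) * g⁻¹ = s
        group
      rw [MonoidHom.comp_apply, h7] at h6
      exact h5.trans h6
    rw [h1, h2, h3, h4, ← map_mul]
    congr 1
    apply Subtype.ext
    exact (congrArg Subtype.val hd).symm
  apply extends_of_supplement hp.out N hind hθ hinv E htop (ν := fun w => (ν w : ℂ))
    (isCharacter_of_isIrr (isIrrCharacter_of_hom ν)) hpm
  have h1 : (fun x : (E ⊓ N : Subgroup G) => ((ν ⟨x, x.2.1⟩ : ℂˣ) : ℂ)) = fun x => (f x : ℂ) := by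
    funext d
    rw [hνφ]
  rw [h1]
  exact hm

end H19.Dade
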