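import Cfsg.Agent.Lib.H3.SylowInf
import Mathlib

/-!
Square roots of a unique involution in a perfect subgroup normalised by a 2-group.
-/

set_option autoImplicit false
set_option linter.unusedSectionVars false

open Subgroup
open scoped commutatorElement

universe u

namespace H19.IcP6

section core

variable {X : Type*} [Group X] [Finite X]

theorem core (M : Subgroup X) [hMn : M.Normal] (hM : ⁅M, M⁆ = M) {z : X} (hz : orderOf z = 2) (hzM : z ∈ M)
    (hu : ∀ t ∈ M, orderOf t = 2 → t = z) (P : Sylow 2 X) :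
    z ∈ P ∧ (∃ v ∈ (P : Subgroup X) ⊓ M, v * v = z) ∧
      ∀ a ∈ P, ∃ x ∈ (P : Subgroup X) ⊓ M, x ≠ 1 ∧ x ≠ z ∧ (a * x * a⁻¹ = x ∨ a * x * a⁻¹ = x * z) := by
  classical
  have : Fact (Nat.Prime 2) := ⟨Nat.prime_two⟩
  have hz2 : z * z = 1 := by have := pow_orderOf_eq_one z; rwa [hz, pow_two] at this
  have hz1 : z ≠ 1 := by intro h; rw [h, orderOf_one] at hz; omega
  -- z is central in X
  have hcen : ∀ g : X, g * z * g⁻¹ = z := by
    intro g
    apply hu _ (hMn.conj_mem z hzM g)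
    rw [← hz]
    exact MulEquiv.orderOf_eq (MulAut.conj g) z
  obtain ⟨Q, hQ⟩ := H3.SylowInf.exists_sylow_inf P M
  have hQP : ∀ x : M, x ∈ Q ↔ (x : X) ∈ P := by
    intro x
    rw [← SetLike.mem_coe, ← Sylow.coe_coe, hQ]
    rfl
  let z' : M := ⟨z, hzM⟩
  have hz' : orderOf z' = 2 := by rw [← hz]; exact (Subgroup.orderOf_coe z').symm
  have hdvd : 2 ∣ Nat.card M := by rw [← hz']; exact orderOf_dvd_natCard z'
  have hdvdQ : 2 ∣ Nat.card Q := Q.dvd_card_of_dvd_card hdvd
  obtain ⟨t, ht⟩ := exists_prime_orderOf_dvd_card' 2 hdvdQ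
  have htz : ((t : M) : X) = z := by
    apply hu _ (t : M).2
    rw [Subgroup.orderOf_coe, Subgroup.orderOf_coe, ht]
  have hzP : z ∈ P := by
    rw [← htz, ← hQP]; exact t.2
  have hz'Q : z' ∈ Q := by rw [hQP]; exact hzP
  -- powers
  have hpow : ∀ v ∈ (P : Subgroup X) ⊓ M, v ≠ 1 → v ≠ z → ∃ w ∈ (P : Subgroup X) ⊓ M, w * w = z := by
    intro v hv h1 hz0
    obtain ⟨k, hk⟩ := (IsPGroup.iff_orderOf.mp P.isPGroup') ⟨v, hv.1⟩
    rw [Subgroup.orderOf_mk] at hk
    match k, hk with
    | 0, hk => rw [pow_zero, orderOf_eq_one_iff] at hk; exact absurd hk h1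
    | 1, hk => rw [pow_one] at hk; exact absurd (hu v hv.2 hk) hz0
    | (k+2), hk =>
      refine ⟨v ^ 2 ^ k, Subgroup.pow_mem _ hv _, ?_⟩
      rw [← pow_add, ← two_mul, ← pow_succ']
      apply hu _ (Subgroup.pow_mem _ hv.2 _)
      rw [orderOf_pow_of_dvd (by positivity) (by rw [hk]; exact pow_dvd_pow 2 (by omega)), hk,
        Nat.pow_div (by omega) (by norm_num), show k + 2 - (k + 1) = 1 by omega, pow_one]
  -- perfectness
  have hperf : commutator M = ⊤ := by
    apply Subgroup.map_injective M.subtype_injective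
    rw [_root_.commutator_def, Subgroup.map_commutator]
    rw [← MonoidHom.range_eq_map, M.range_subtype, hM]
  have hbig : ∃ v ∈ (P : Subgroup X) ⊓ M, v ≠ 1 ∧ v ≠ z := by
    by_contra hcon
    push Not at hcon
    have hQz : ∀ v ∈ Q, v = 1 ∨ v = z' := by
      intro v hv
      by_cases h1 : v = 1
      · exact Or.inl h1
      · right
        apply Subtype.ext
        apply hcon v ⟨(hQP v).mp hv, v.2⟩
        intro h; exact h1 (Subtype.ext h)
    have hcyc : IsCyclic Q := by
      refine ⟨⟨⟨z', hz'Q⟩, ?_⟩⟩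
      intro v
      rcases hQz v v.2 with h | h
      · have : v = 1 := Subtype.ext h
        rw [this]; exact ⟨0, zpow_zero _⟩
      · have : v = ⟨z', hz'Q⟩ := Subtype.ext h
        rw [this]; exact ⟨1, zpow_one _⟩
    have hmin : (Nat.card M).minFac = 2 := (Nat.minFac_eq_two_iff _).mpr hdvd
    have hcompl := IsCyclic.isComplement' hmin hcyc
    set K := (MonoidHom.transferSylow Q (hcyc.normalizer_le_centralizer hmin)).ker with hK
    have hKtop : K = ⊤ := by
      rw [eq_top_iff, ← hperf, hK]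
      have habel : ∀ a b : Q, a * b = b * a := fun a b => (IsCyclic.commGroup (α := Q)).mul_comm a b
      rw [_root_.commutator_def, Subgroup.commutator_le]
      intro g _ h _
      rw [MonoidHom.mem_ker, map_commutatorElement, commutatorElement_eq_one_iff_mul_comm]
      exact habel _ _
    have h1 : (z' : M) ∈ (K ⊓ (Q : Subgroup M) : Subgroup M) := ⟨by rw [hKtop]; exact Subgroup.mem_top _, hz'Q⟩
    rw [hcompl.disjoint.eq_bot, Subgroup.mem_bot] at h1
    exact hz1 (congrArg Subtype.val h1)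
  refine ⟨hzP, ?_, ?_⟩
  · obtain ⟨v, hv, h1, h2⟩ := hbig
    exact hpow v hv h1 h2
  · intro a ha
    obtain ⟨v, hv, h1, h2⟩ := hbig
    -- iterated commutators
    let c : ℕ → X := fun n => Nat.rec v (fun _ x => ⁅x, a⁆) n
    have hc0 : c 0 = v := rfl
    have hcs : ∀ n, c (n + 1) = ⁅c n, a⁆ := fun n => rfl
    have hcm : ∀ n, c n ∈ (P : Subgroup X) ⊓ M := by
      intro n
      induction n with
      | zero => exact hv
      | succ n ih =>
        rw [hcs]
        refine ⟨?_, ?_⟩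
        · rw [commutatorElement_def]
          exact Subgroup.mul_mem _ (Subgroup.mul_mem _ (Subgroup.mul_mem _ ih.1 ha) (Subgroup.inv_mem _ ih.1)) (Subgroup.inv_mem _ ha)
        · rw [commutatorElement_def]
          have := hMn.conj_mem (c n)⁻¹ (Subgroup.inv_mem _ ih.2) a
          rw [mul_assoc, mul_assoc, ← mul_assoc a]
          exact Subgroup.mul_mem _ ih.2 this
    have hnil : ∃ n, c n = 1 := by
      have hN : Group.IsNilpotent P := P.isPGroup'.isNilpotent
      obtain ⟨n, hn⟩ := Subgroup.nilpotent_iff_lowerCentralSeries.mp hN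
      refine ⟨n, ?_⟩
      have hmem : ∀ n, (⟨c n, (hcm n).1⟩ : P) ∈ (⊤ : Subgroup P).lowerCentralSeries n := by
        intro n
        induction n with
        | zero => exact Subgroup.mem_top _
        | succ n ih =>
          have e1 : (⟨c (n + 1), (hcm (n + 1)).1⟩ : P) = ⁅(⟨c n, (hcm n).1⟩ : P), ⟨a, ha⟩⁆ := rfl
          rw [e1]
          exact Subgroup.commutator_mem_commutator ih (Subgroup.mem_top _)
      have h3 := hmem n
      rw [hn, Subgroup.mem_bot] at h3
      exact congrArg Subtype.val h3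
    -- last term outside <z>
    obtain ⟨m, hprev, hlast⟩ : ∃ m, (c m ≠ 1 ∧ c m ≠ z) ∧ (c (m + 1) = 1 ∨ c (m + 1) = z) := by
      by_contra hcon
      have hall : ∀ n, c n ≠ 1 ∧ c n ≠ z := by
        intro n
        induction n with
        | zero => exact ⟨h1, h2⟩
        | succ n ih =>
          by_contra hno
          apply hcon
          refine ⟨n, ih, ?_⟩
          by_contra h'
          push Not at h'
          exact hno h'
      obtain ⟨n, hn⟩ := hnil
      exact (hall n).1 hn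
    rw [hcs] at hlast
    refine ⟨c m, hcm m, hprev.1, hprev.2, ?_⟩
    rcases hlast with h | h
    · left
      rw [commutatorElement_eq_one_iff_mul_comm] at h
      rw [← h, mul_inv_cancel_right]
    · right
      rw [commutatorElement_def] at h
      have e1 : c m * a = z * (a * c m) := by
        rw [← h]; group
      have e2 : a * c m = z * (c m * a) := by rw [e1, ← mul_assoc, hz2, one_mul]
      have e3 : c m * z = z * c m := by
        have := hcen (c m)
        rw [mul_inv_eq_iff_eq_mul] at this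
        exact this
      rw [e2, e3]; group

end core

variable {G : Type u} [Group G] [Finite G]

/-- **P6** -/
theorem exists_sqrt {M : Subgroup G} (hM : ⁅M, M⁆ = M) {z : G} (hz : orderOf z = 2) (hzM : z ∈ M)
    (hu : ∀ t ∈ M, orderOf t = 2 → t = z) (A : Subgroup G) (hA : IsPGroup 2 A) (hAM : A ≤ normalizer (M : Set G)) :
    ∃ S : Subgroup G, IsPGroup 2 S ∧ S ≤ M ∧ A ≤ normalizer (S : Set G) ∧ z ∈ S ∧ (∃ v ∈ S, v * v = z) ∧
      ∀ a ∈ A, ∃ x ∈ S, x ≠ 1 ∧ x ≠ z ∧ (a * x * a⁻¹ = x ∨ a * x * a⁻¹ = x * z) := by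
  classical
  have : Fact (Nat.Prime 2) := ⟨Nat.prime_two⟩
  set N : Subgroup G := normalizer (M : Set G) with hN
  have hMN : M ≤ N := Subgroup.le_normalizer
  let M' : Subgroup N := M.subgroupOf N
  have hMn : M'.Normal := Subgroup.normal_subgroupOf_of_le_normalizer le_rfl
  have hA' : IsPGroup 2 (A.subgroupOf N) := hA.comap_subtype
  obtain ⟨P, hP⟩ := hA'.exists_le_sylow
  have hM' : ⁅M', M'⁆ = M' := by
    apply Subgroup.map_injective N.subtype_injective
    rw [Subgroup.map_commutator]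
    have : M'.map N.subtype = M := by
      rw [Subgroup.subgroupOf_map_subtype, inf_eq_left.mpr hMN]
    rw [this, hM]
  obtain ⟨h1, ⟨v, hv, hvz⟩, h3⟩ := core M' hM' (z := ⟨z, hMN hzM⟩) (by rw [Subgroup.orderOf_mk]; exact hz)
    (Subgroup.mem_subgroupOf.mpr hzM) (fun t ht ho => Subtype.ext (hu t (Subgroup.mem_subgroupOf.mp ht)
      (by rw [Subgroup.orderOf_coe]; exact ho))) P
  refine ⟨((P : Subgroup N) ⊓ M').map N.subtype, ?_, ?_, ?_, ?_, ?_, ?_⟩
  · exact (P.isPGroup'.to_le inf_le_left).map _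
  · rintro _ ⟨x, hx, rfl⟩
    exact Subgroup.mem_subgroupOf.mp hx.2
  · intro a ha
    have haN := hAM ha
    have haP : (⟨a, haN⟩ : N) ∈ P := hP (Subgroup.mem_subgroupOf.mpr ha)
    apply Subgroup.mem_normalizer_fintype
    rintro _ ⟨x, hx, rfl⟩
    refine ⟨⟨a, haN⟩ * x * ⟨a, haN⟩⁻¹, ⟨?_, ?_⟩, rfl⟩
    · exact Subgroup.mul_mem _ (Subgroup.mul_mem _ haP hx.1) (Subgroup.inv_mem _ haP)
    · exact hMn.conj_mem x hx.2 _
  · exact ⟨⟨z, hMN hzM⟩, ⟨h1, Subgroup.mem_subgroupOf.mpr hzM⟩, rfl⟩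
  · exact ⟨v, ⟨v, hv, rfl⟩, congrArg Subtype.val hvz⟩
  · intro a ha
    have haP : (⟨a, hAM ha⟩ : N) ∈ P := hP (Subgroup.mem_subgroupOf.mpr ha)
    obtain ⟨x, hx, hx1, hxz, hh⟩ := h3 _ haP
    refine ⟨x, ⟨x, hx, rfl⟩, ?_, ?_, ?_⟩
    · intro h; exact hx1 (Subtype.ext h)
    · intro h; exact hxz (Subtype.ext h)
    · rcases hh with hh | hh
      · left; exact congrArg Subtype.val hh
      · right; exact congrArg Subtype.val hh

end H19.IcP6
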