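import Mathlib
import Cfsg.Agent.Lib.H34.SpWDefs
import Cfsg.Agent.Lib.H41.AltForm

/-!
The data `KD` for a four-dimensional symplectic space in characteristic two.
-/

set_option autoImplicit false
set_option linter.unusedSimpArgs false

namespace H19.KD4

open Matrix Module

variable {F : Type*} [Field F]

lemma mat_ext {n : ℕ} {A B : Matrix (Fin n) (Fin n) F} (h : ∀ v, A *ᵥ v = B *ᵥ v) : A = B :=
  Matrix.ext_of_mulVec_single fun i => h _

/-- a symplectic basis -/
structure SB (f : (Fin 4 → F) → (Fin 4 → F) → F) (e : Fin 4 → (Fin 4 → F)) : Prop where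
  al : ∀ v w x, f (v + w) x = f v x + f w x
  sl : ∀ (c : F) v x, f (c • v) x = c * f v x
  sym : ∀ v w, f v w = f w v
  alt : ∀ v, f v v = 0
  h01 : f (e 0) (e 1) = 1
  h23 : f (e 2) (e 3) = 1
  h02 : f (e 0) (e 2) = 0
  h03 : f (e 0) (e 3) = 0
  h12 : f (e 1) (e 2) = 0
  h13 : f (e 1) (e 3) = 0
  exp : ∀ v, v = f v (e 1) • e 0 + f v (e 0) • e 1 + f v (e 3) • e 2 + f v (e 2) • e 3

lemma exists_sb (h2 : (2 : F) = 0) {f : (Fin 4 → F) → (Fin 4 → F) → F} (hf : Cfsg.Geo.IsSymplecticForm f) :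
    ∃ e, SB f e := by
  let B : (Fin 4 → F) →ₗ[F] (Fin 4 → F) →ₗ[F] F := LinearMap.mk₂ F f hf.bilinear.add_left
    (fun c v x => hf.bilinear.smul_left c v x) hf.bilinear.add_right (fun c v x => hf.bilinear.smul_right c v x)
  have hB : ∀ x y, B x y = f x y := fun x y => rfl
  obtain ⟨m, hm, e, he⟩ := H41.AltForm.exists_symplectic (K := F) 4 B (fun x => hf.alternating x) (fun x hx => by
    by_contra h0
    obtain ⟨y, hy⟩ := (hf.nondegenerate x h0).2
    exact hy (hx y)) (by simp)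
  obtain rfl : m = 2 := by omega
  have hneg : (-1 : F) = 1 := by linear_combination -h2
  have hsym : ∀ v w, f v w = f w v := by
    intro v w
    rw [hf.skew v w, ← neg_one_mul, hneg, one_mul]
  have g1 : ∀ i j, f (e (Sum.inl i)) (e (Sum.inr j)) = if i = j then 1 else 0 := by
    intro i j
    rw [← hB, he, H41.AltForm.J_inl_inr, hneg]
  have g2 : ∀ i j, f (e (Sum.inr i)) (e (Sum.inl j)) = if i = j then 1 else 0 := by
    intro i j
    rw [← hB, he, H41.AltForm.J_inr_inl]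
  have g3 : ∀ i j, f (e (Sum.inl i)) (e (Sum.inl j)) = 0 := by
    intro i j
    rw [← hB, he]; simp [Matrix.J]
  have g4 : ∀ i j, f (e (Sum.inr i)) (e (Sum.inr j)) = 0 := by
    intro i j
    rw [← hB, he]; simp [Matrix.J]
  let w : Fin 4 → (Fin 4 → F) := ![e (Sum.inl 0), e (Sum.inr 0), e (Sum.inl 1), e (Sum.inr 1)]
  have al := hf.bilinear.add_left
  have sl := hf.bilinear.smul_left
  have w01 : f (w 0) (w 1) = 1 := by change f (e (Sum.inl 0)) (e (Sum.inr 0)) = 1; rw [g1]; simp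
  have w23 : f (w 2) (w 3) = 1 := by change f (e (Sum.inl 1)) (e (Sum.inr 1)) = 1; rw [g1]; simp
  have w02 : f (w 0) (w 2) = 0 := g3 _ _
  have w03 : f (w 0) (w 3) = 0 := by change f (e (Sum.inl 0)) (e (Sum.inr 1)) = 0; rw [g1]; simp
  have w12 : f (w 1) (w 2) = 0 := by change f (e (Sum.inr 0)) (e (Sum.inl 1)) = 0; rw [g2]; simp
  have w13 : f (w 1) (w 3) = 0 := g4 _ _
  have w10 := (hsym (w 1) (w 0)).trans w01
  have w32 := (hsym (w 3) (w 2)).trans w23
  have w20 := (hsym (w 2) (w 0)).trans w02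
  have w30 := (hsym (w 3) (w 0)).trans w03
  have w21 := (hsym (w 2) (w 1)).trans w12
  have w31 := (hsym (w 3) (w 1)).trans w13
  have walt : ∀ v, f v v = 0 := hf.alternating
  have f0 : ∀ x, f 0 x = 0 := by
    intro x
    have := sl 0 0 x
    rwa [zero_smul, zero_mul] at this
  have hli : LinearIndependent F w := by
    rw [Fintype.linearIndependent_iff]
    intro c hc
    rw [Fin.sum_univ_four] at hc
    have k : ∀ x, c 0 * f (w 0) x + c 1 * f (w 1) x + c 2 * f (w 2) x + c 3 * f (w 3) x = 0 := by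
      intro x
      rw [← sl, ← sl, ← sl, ← sl, ← al, ← al, ← al, hc, f0]
    have k0 := k (w 0)
    have k1 := k (w 1)
    have k2 := k (w 2)
    have k3 := k (w 3)
    rw [walt, w10, w20, w30] at k0
    rw [walt, w01, w21, w31] at k1
    rw [walt, w02, w12, w32] at k2
    rw [walt, w03, w13, w23] at k3
    intro i
    fin_cases i
    · change c 0 = 0; linear_combination k1
    · change c 1 = 0; linear_combination k0
    · change c 2 = 0; linear_combination k3
    · change c 3 = 0; linear_combination k2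
  have hspan : Submodule.span F (Set.range w) = ⊤ :=
    hli.span_eq_top_of_card_eq_finrank (by simp)
  refine ⟨w, al, sl, hsym, walt, w01, w23, w02, w03, w12, w13, ?_⟩
  intro v
  set u := f v (w 1) • w 0 + f v (w 0) • w 1 + f v (w 3) • w 2 + f v (w 2) • w 3 with hu
  have hfu : ∀ x, f u x = f v (w 1) * f (w 0) x + f v (w 0) * f (w 1) x + f v (w 3) * f (w 2) x + f v (w 2) * f (w 3) x := by
    intro x
    rw [hu, al, al, al, sl, sl, sl, sl]
  have hd : ∀ i, f (v + (-1 : F) • u) (w i) = 0 := by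
    intro i
    rw [al, sl, hfu]
    fin_cases i
    · change f v (w 0) + -1 * (f v (w 1) * f (w 0) (w 0) + f v (w 0) * f (w 1) (w 0) + f v (w 3) * f (w 2) (w 0) + f v (w 2) * f (w 3) (w 0)) = 0
      rw [walt, w10, w20, w30]; ring
    · change f v (w 1) + -1 * (f v (w 1) * f (w 0) (w 1) + f v (w 0) * f (w 1) (w 1) + f v (w 3) * f (w 2) (w 1) + f v (w 2) * f (w 3) (w 1)) = 0
      rw [walt, w01, w21, w31]; ring
    · change f v (w 2) + -1 * (f v (w 1) * f (w 0) (w 2) + f v (w 0) * f (w 1) (w 2) + f v (w 3) * f (w 2) (w 2) + f v (w 2) * f (w 3) (w 2)) = 0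
      rw [walt, w02, w12, w32]; ring
    · change f v (w 3) + -1 * (f v (w 1) * f (w 0) (w 3) + f v (w 0) * f (w 1) (w 3) + f v (w 3) * f (w 2) (w 3) + f v (w 2) * f (w 3) (w 3)) = 0
      rw [walt, w03, w13, w23]; ring
  have hall : ∀ x, f (v + (-1 : F) • u) x = 0 := by
    intro x
    have hx : x ∈ Submodule.span F (Set.range w) := by rw [hspan]; exact Submodule.mem_top
    induction hx using Submodule.span_induction with
    | mem x hx => obtain ⟨i, rfl⟩ := hx; exact hd i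
    | zero =>
      have := hf.bilinear.smul_right 0 (v + (-1 : F) • u) 0
      rwa [zero_smul, zero_mul] at this
    | add x y _ _ hx hy => rw [hf.bilinear.add_right, hx, hy, add_zero]
    | smul c x _ hx => rw [hf.bilinear.smul_right, hx, mul_zero]
  by_contra hne
  have hne' : v + (-1 : F) • u ≠ 0 := by
    intro h0
    apply hne
    rw [neg_one_smul, ← sub_eq_add_neg] at h0
    exact sub_eq_zero.mp h0
  obtain ⟨x, hx⟩ := (hf.nondegenerate _ hne').2
  exact hx (hall x)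

variable {f : (Fin 4 → F) → (Fin 4 → F) → F} {e : Fin 4 → (Fin 4 → F)}

lemma SB.ar (S : SB f e) (v w x : Fin 4 → F) : f x (v + w) = f x v + f x w := by
  rw [S.sym, S.al, S.sym v, S.sym w]

lemma SB.sr (S : SB f e) (c : F) (v x : Fin 4 → F) : f x (c • v) = c * f x v := by
  rw [S.sym, S.sl, S.sym v]

/-- the key identity -/
lemma SB.ident (S : SB f e) (h2 : (2 : F) = 0) {X : Matrix (Fin 4) (Fin 4) F} (hX : ∀ v, f (X *ᵥ v) v = 0) :
    ∃ c : F, X * X = (f (X *ᵥ e 0) (e 1) + f (X *ᵥ e 2) (e 3)) • X + c • (1 : Matrix (Fin 4) (Fin 4) F) := by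
  have hadj : ∀ u v, f (X *ᵥ u) v = f (X *ᵥ v) u := by
    intro u v
    have h1 := hX (u + v)
    rw [Matrix.mulVec_add, S.al, S.ar, S.ar, hX, hX] at h1
    linear_combination h1 - f (X *ᵥ v) u * h2
  set m01 := f (X *ᵥ e 0) (e 1) with e01
  set m02 := f (X *ᵥ e 0) (e 2) with e02
  set m03 := f (X *ᵥ e 0) (e 3) with e03
  set m12 := f (X *ᵥ e 1) (e 2) with e12
  set m13 := f (X *ᵥ e 1) (e 3) with e13
  set m23 := f (X *ᵥ e 2) (e 3) with e23
  have x0 : X *ᵥ e 0 = m01 • e 0 + m03 • e 2 + m02 • e 3 := by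
    conv_lhs => rw [S.exp (X *ᵥ e 0)]
    rw [hX, ← e01, ← e02, ← e03]; module
  have x1 : X *ᵥ e 1 = m01 • e 1 + m13 • e 2 + m12 • e 3 := by
    conv_lhs => rw [S.exp (X *ᵥ e 1)]
    rw [hX, hadj (e 1) (e 0), ← e01, ← e12, ← e13]; module
  have x2 : X *ᵥ e 2 = m12 • e 0 + m02 • e 1 + m23 • e 2 := by
    conv_lhs => rw [S.exp (X *ᵥ e 2)]
    rw [hX, hadj (e 2) (e 0), hadj (e 2) (e 1), ← e02, ← e12, ← e23]; module
  have x3 : X *ᵥ e 3 = m13 • e 0 + m03 • e 1 + m23 • e 3 := by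
    conv_lhs => rw [S.exp (X *ᵥ e 3)]
    rw [hX, hadj (e 3) (e 0), hadj (e 3) (e 1), hadj (e 3) (e 2), ← e03, ← e13, ← e23]; module
  refine ⟨m01 * m23 + m02 * m13 + m03 * m12, ?_⟩
  have y0 : X *ᵥ (X *ᵥ e 0) = (m01 + m23) • (X *ᵥ e 0) + (m01 * m23 + m02 * m13 + m03 * m12) • e 0 := by
    conv_lhs => rw [x0]
    rw [Matrix.mulVec_add, Matrix.mulVec_add, Matrix.mulVec_smul, Matrix.mulVec_smul, Matrix.mulVec_smul, x0, x2, x3]
    ext i
    simp only [Pi.add_apply, Pi.smul_apply, smul_eq_mul]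
    linear_combination (m02 * m03 * e 1 i - m01 * m23 * e 0 i) * h2
  have y1 : X *ᵥ (X *ᵥ e 1) = (m01 + m23) • (X *ᵥ e 1) + (m01 * m23 + m02 * m13 + m03 * m12) • e 1 := by
    conv_lhs => rw [x1]
    rw [Matrix.mulVec_add, Matrix.mulVec_add, Matrix.mulVec_smul, Matrix.mulVec_smul, Matrix.mulVec_smul, x1, x2, x3]
    ext i
    simp only [Pi.add_apply, Pi.smul_apply, smul_eq_mul]
    linear_combination (m12 * m13 * e 0 i - m01 * m23 * e 1 i) * h2
  have y2 : X *ᵥ (X *ᵥ e 2) = (m01 + m23) • (X *ᵥ e 2) + (m01 * m23 + m02 * m13 + m03 * m12) • e 2 := by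
    conv_lhs => rw [x2]
    rw [Matrix.mulVec_add, Matrix.mulVec_add, Matrix.mulVec_smul, Matrix.mulVec_smul, Matrix.mulVec_smul, x0, x1, x2]
    ext i
    simp only [Pi.add_apply, Pi.smul_apply, smul_eq_mul]
    linear_combination (m12 * m02 * e 3 i - m01 * m23 * e 2 i) * h2
  have y3 : X *ᵥ (X *ᵥ e 3) = (m01 + m23) • (X *ᵥ e 3) + (m01 * m23 + m02 * m13 + m03 * m12) • e 3 := by
    conv_lhs => rw [x3]
    rw [Matrix.mulVec_add, Matrix.mulVec_add, Matrix.mulVec_smul, Matrix.mulVec_smul, Matrix.mulVec_smul, x0, x1, x3]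
    ext i
    simp only [Pi.add_apply, Pi.smul_apply, smul_eq_mul]
    linear_combination (m13 * m03 * e 2 i - m01 * m23 * e 3 i) * h2
  apply mat_ext
  intro v
  rw [← Matrix.mulVec_mulVec, Matrix.add_mulVec, Matrix.smul_mulVec, Matrix.smul_mulVec, Matrix.one_mulVec]
  rw [S.exp v]
  simp only [Matrix.mulVec_add, Matrix.mulVec_smul, y0, y1, y2, y3]
  module

theorem kd4 {F : Type*} [Field F] [Fintype F] (h2 : (2 : F) = 0) (t : ℕ) (ht : 2 ≤ t)
    (f₁ : (Fin 4 → F) → (Fin 4 → F) → F) (hf₁ : Cfsg.Geo.IsSymplecticForm f₁) : Nonempty (H34.SpW.KD 4 t f₁) := by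
  classical
  obtain ⟨e, S⟩ := exists_sb h2 hf₁
  have e10 := (S.sym (e 1) (e 0)).trans S.h01
  have e32 := (S.sym (e 3) (e 2)).trans S.h23
  have e20 := (S.sym (e 2) (e 0)).trans S.h02
  have e30 := (S.sym (e 3) (e 0)).trans S.h03
  have e21 := (S.sym (e 2) (e 1)).trans S.h12
  have e31 := (S.sym (e 3) (e 1)).trans S.h13
  have f0 : ∀ x, f₁ 0 x = 0 := by
    intro x
    have := S.sl 0 0 x
    rwa [zero_smul, zero_mul] at this
  -- linear maps
  have mk : ∀ a b : Fin 4 → F, ∃ E : Matrix (Fin 4) (Fin 4) F, ∀ v, E *ᵥ v = f₁ v a • b + f₁ v b • a := by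
    intro a b
    let T : (Fin 4 → F) →ₗ[F] (Fin 4 → F) :=
      { toFun := fun v => f₁ v a • b + f₁ v b • a
        map_add' := by intro v w; rw [S.al, S.al]; module
        map_smul' := by intro c v; rw [S.sl, S.sl, RingHom.id_apply]; module }
    exact ⟨LinearMap.toMatrix' T, fun v => by rw [LinearMap.toMatrix'_mulVec]; rfl⟩
  obtain ⟨E, hE⟩ := mk (e 0) (e 2)
  obtain ⟨E', hE'⟩ := mk (e 1) (e 3)
  have two : ∀ c : F, c + c = 0 := by intro c; linear_combination c * h2
  have altE : ∀ (a b : Fin 4 → F) (G : Matrix (Fin 4) (Fin 4) F), (∀ v, G *ᵥ v = f₁ v a • b + f₁ v b • a) →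
      ∀ v, f₁ (G *ᵥ v) v = 0 := by
    intro a b G hG v
    rw [hG, S.al, S.sl, S.sl, S.sym b v, S.sym a v]
    linear_combination f₁ v a * f₁ v b * h2
  have adj : ∀ (a b : Fin 4 → F) (G : Matrix (Fin 4) (Fin 4) F), (∀ v, G *ᵥ v = f₁ v a • b + f₁ v b • a) →
      ∀ u v, f₁ (G *ᵥ u) v = f₁ u (G *ᵥ v) := by
    intro a b G hG u v
    rw [hG, hG, S.al, S.sl, S.sl, S.ar, S.sr, S.sr, S.sym b v, S.sym a v]
    ring
  let Wk : Submodule F (Matrix (Fin 4) (Fin 4) F) :=
    { carrier := {X | (∀ v, f₁ (X *ᵥ v) v = 0) ∧ f₁ (X *ᵥ e 0) (e 1) + f₁ (X *ᵥ e 2) (e 3) = 0}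
      add_mem' := by
        rintro X Y ⟨h1, h3⟩ ⟨h4, h5⟩
        refine ⟨fun v => by rw [Matrix.add_mulVec, S.al, h1, h4, add_zero], ?_⟩
        rw [Matrix.add_mulVec, Matrix.add_mulVec, S.al, S.al]
        linear_combination h3 + h5
      zero_mem' := ⟨fun v => by rw [Matrix.zero_mulVec, f0], by rw [Matrix.zero_mulVec, Matrix.zero_mulVec, f0, f0, add_zero]⟩
      smul_mem' := by
        rintro c X ⟨h1, h3⟩
        refine ⟨fun v => by rw [Matrix.smul_mulVec, S.sl, h1, mul_zero], ?_⟩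
        rw [Matrix.smul_mulVec, Matrix.smul_mulVec, S.sl, S.sl, ← mul_add, h3, mul_zero] }
  let i0 : Fin t := ⟨0, by omega⟩
  let i1 : Fin t := ⟨1, by omega⟩
  have hi : i1 ≠ i0 := by intro h; have := congrArg Fin.val h; simp [i0, i1] at this
  have hEe0 : E *ᵥ e 0 = 0 := by rw [hE, S.alt, S.h02]; module
  have hEe1 : E *ᵥ e 1 = e 2 := by rw [hE, e10, S.h12]; module
  have hEe2 : E *ᵥ e 2 = 0 := by rw [hE, S.alt, e20]; module
  have hEe3 : E *ᵥ e 3 = e 0 := by rw [hE, e30, e32]; module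
  have hE'e0 : E' *ᵥ e 0 = e 3 := by rw [hE', S.h01, S.h03]; module
  have hE'e1 : E' *ᵥ e 1 = 0 := by rw [hE', S.alt, S.h13]; module
  have hE'e2 : E' *ᵥ e 2 = e 1 := by rw [hE', e21, S.h23]; module
  have hE'e3 : E' *ᵥ e 3 = 0 := by rw [hE', S.alt, e31]; module
  exact ⟨{
    Wk := Wk
    one := ⟨fun v => by rw [Matrix.one_mulVec, S.alt], by rw [Matrix.one_mulVec, Matrix.one_mulVec, S.h01, S.h23]; exact two 1⟩
    sq := by
      rintro X ⟨h1, h3⟩
      obtain ⟨c, hc⟩ := S.ident h2 h1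
      exact ⟨c, by rw [hc, h3, zero_smul, zero_add]⟩
    sim := by
      rintro A c hc hA X ⟨h1, h3⟩
      obtain ⟨d, hd⟩ := S.ident h2 h1
      rw [h3, zero_smul, zero_add] at hd
      set Y := (A : Matrix (Fin 4) (Fin 4) F) * X * ((A⁻¹ : GL (Fin 4) F) : Matrix (Fin 4) (Fin 4) F) with hY
      have hYalt : ∀ v, f₁ (Y *ᵥ v) v = 0 := by
        intro v
        have e1 : v = (A : Matrix (Fin 4) (Fin 4) F) *ᵥ (((A⁻¹ : GL (Fin 4) F) : Matrix (Fin 4) (Fin 4) F) *ᵥ v) := by
          rw [Matrix.mulVec_mulVec, ← Units.val_mul, mul_inv_cancel, Units.val_one, Matrix.one_mulVec]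
        set w := ((A⁻¹ : GL (Fin 4) F) : Matrix (Fin 4) (Fin 4) F) *ᵥ v with hw
        have e2 : Y *ᵥ v = (A : Matrix (Fin 4) (Fin 4) F) *ᵥ (X *ᵥ w) := by
          rw [hY, ← Matrix.mulVec_mulVec, ← hw, ← Matrix.mulVec_mulVec]
        rw [e2]
        conv_lhs => rw [e1]
        rw [hA, h1, mul_zero]
      refine ⟨hYalt, ?_⟩
      obtain ⟨d', hd'⟩ := S.ident h2 hYalt
      have hYY : Y * Y = d • (1 : Matrix (Fin 4) (Fin 4) F) := by
        have e1 : Y * Y = (A : Matrix (Fin 4) (Fin 4) F) * (X * X) * ((A⁻¹ : GL (Fin 4) F) : Matrix (Fin 4) (Fin 4) F) := by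
          rw [hY]
          simp only [Matrix.mul_assoc]
          rw [← Matrix.mul_assoc ((A⁻¹ : GL (Fin 4) F) : Matrix (Fin 4) (Fin 4) F) (A : Matrix (Fin 4) (Fin 4) F),
            ← Units.val_mul, inv_mul_cancel, Units.val_one, Matrix.one_mul]
        rw [e1, hd, Matrix.mul_smul, mul_one, Matrix.smul_mul, ← Units.val_mul, mul_inv_cancel, Units.val_one]
      rw [hYY] at hd'
      set τ := f₁ (Y *ᵥ e 0) (e 1) + f₁ (Y *ᵥ e 2) (e 3) with hτ
      by_contra hτ0
      have e1 : τ • Y = (d - d') • (1 : Matrix (Fin 4) (Fin 4) F) := by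
        rw [sub_smul, hd']; abel
      have e2 : Y = (τ⁻¹ * (d - d')) • (1 : Matrix (Fin 4) (Fin 4) F) := by
        rw [← smul_smul, ← e1, smul_smul, inv_mul_cancel₀ hτ0, one_smul]
      apply hτ0
      rw [hτ, e2, Matrix.smul_mulVec, Matrix.smul_mulVec, Matrix.one_mulVec, Matrix.one_mulVec, S.sl, S.sl, S.h01, S.h23]
      exact two _
    E := E
    E' := E'
    hE := ⟨altE _ _ E hE, by rw [hEe0, hEe2, f0, f0, add_zero]⟩
    hE' := ⟨altE _ _ E' hE', by rw [hE'e0, hE'e2, e31, S.h13, add_zero]⟩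
    EE := by
      apply mat_ext
      intro v
      rw [← Matrix.mulVec_mulVec, hE v, Matrix.mulVec_add, Matrix.mulVec_smul, Matrix.mulVec_smul, hEe0, hEe2, Matrix.zero_mulVec]
      module
    EE' := by
      apply mat_ext
      intro v
      rw [← Matrix.mulVec_mulVec, hE' v, Matrix.mulVec_add, Matrix.mulVec_smul, Matrix.mulVec_smul, hE'e1, hE'e3, Matrix.zero_mulVec]
      module
    EEone := by
      apply mat_ext
      intro v
      rw [Matrix.add_mulVec, ← Matrix.mulVec_mulVec, ← Matrix.mulVec_mulVec, hE v, hE' v, Matrix.mulVec_add, Matrix.mulVec_add,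
        Matrix.mulVec_smul, Matrix.mulVec_smul, Matrix.mulVec_smul, Matrix.mulVec_smul, hE'e0, hE'e2, hEe1, hEe3, Matrix.one_mulVec]
      conv_rhs => rw [S.exp v]
      module
    adjE := adj _ _ E hE
    adjE' := adj _ _ E' hE'
    alt := Or.inr (altE _ _ E hE)
    p := e 1
    a := e 0
    b := e 3
    E'p := hE'e1
    fpa := e10
    fqa := by rw [hEe1]; exact e20
    fpb := S.h13
    fqb := by rw [hEe1]; exact S.h23
    x := fun i => if i = i0 then e 1 else e 0
    y := fun i => if i = i0 then e 3 else e 1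
    s := fun i => if i = i1 then e 2 else e 0
    z := fun i => if i = i1 then e 3 else e 1
    i₀ := i0
    hxy := Finset.prod_eq_zero (Finset.mem_univ i0) (by simp only [if_true]; exact S.h13)
    hsz := by
      rw [Finset.prod_ne_zero_iff]
      intro i _
      by_cases h : i = i1
      · simp only [h, if_true]; rw [S.h23]; exact one_ne_zero
      · simp only [h, if_false]; rw [S.h01]; exact one_ne_zero
    hxs := Finset.prod_eq_zero (Finset.mem_univ i1) (by simp only [hi, if_true, if_false]; exact S.h02)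
    hxz := Finset.prod_eq_zero (Finset.mem_univ i0) (by simp only [Ne.symm hi, if_true, if_false]; exact S.alt _)
    hys := Finset.prod_eq_zero (Finset.mem_univ i1) (by simp only [hi, if_true, if_false]; exact S.h12)
    hyz := Finset.prod_eq_zero (Finset.mem_univ i0) (by simp only [Ne.symm hi, if_true, if_false]; exact e31)
    hxs' := Finset.prod_eq_zero (Finset.mem_univ i1) (by
      rw [Function.update_of_ne hi]; simp only [hi, if_true, if_false]; exact S.h02)
    hys' := Finset.prod_eq_zero (Finset.mem_univ i1) (by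
      rw [Function.update_of_ne hi]; simp only [hi, if_true, if_false]; exact S.h12)
    hxy' := by
      rw [Finset.prod_ne_zero_iff]
      intro i _
      by_cases h : i = i0
      · rw [h, Function.update_self]; simp only [if_true]; rw [hEe1, S.h23]; exact one_ne_zero
      · rw [Function.update_of_ne h]; simp only [h, if_false]; rw [S.h01]; exact one_ne_zero }⟩

end H19.KD4
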