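import Mathlib
import Cfsg.Agent.Lib.H95.OGeo

/-!
A quadratic form vanishing on the singular vectors of a nondegenerate quadratic form in dimension four.
-/

set_option autoImplicit false

namespace H19.PropSing

open Module QuadraticMap H48.QuadSplit H48.QuadWitt H95.OGeo H48.QuadStd

variable {F V : Type*} [Field F] [AddCommGroup V] [Module F V] {Q : QuadraticForm F V}

/-- an orthogonal anisotropic partner -/
lemma exists_perp [FiniteDimensional F V] (hQ : ND Q) (h4 : 4 ≤ finrank F V) (h2 : (2 : F) ≠ 0) {e f p : V}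
    (he : Q e = 0) (hf : Q f = 0) (hef : polar Q e f = 1) (hpe : polar Q p e = 0) (hpf : polar Q p f = 0)
    (hp : Q p ≠ 0) : ∃ r, polar Q r e = 0 ∧ polar Q r f = 0 ∧ polar Q r p = 0 ∧ Q r ≠ 0 := by
  classical
  set L : Submodule F V := Submodule.span F ({e, f, p} : Set V) with hL
  have heL : e ∈ L := Submodule.subset_span (by simp)
  have hfL : f ∈ L := Submodule.subset_span (by simp)
  have hpL : p ∈ L := Submodule.subset_span (by simp)
  have hfin : finrank F L ≤ 3 := by
    have h := finrank_span_le_card (R := F) ({e, f, p} : Set V)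
    refine h.trans ?_
    rw [Set.toFinset_insert, Set.toFinset_insert, Set.toFinset_singleton]
    exact Finset.card_le_three
  have hND : ND (Q.restrict L) := by
    rintro ⟨x, hx⟩ h
    obtain ⟨a, b, c, rfl⟩ := Submodule.mem_span_triple.mp hx
    have h1 := h ⟨e, heL⟩
    have h3 := h ⟨f, hfL⟩
    have h5 := h ⟨p, hpL⟩
    rw [polar_restrict] at h1 h3 h5
    simp only [p_add, p_smul] at h1 h3 h5
    rw [p_self, he, p_comm Q f e, hef, hpe] at h1
    rw [p_self, hf, hef, hpf] at h3
    rw [p_self, p_comm Q e p, p_comm Q f p, hpe, hpf] at h5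
    have ha : a = 0 := by linear_combination h3
    have hb : b = 0 := by linear_combination h1
    have hc : c = 0 := by
      have : c * (2 * Q p) = 0 := by linear_combination h5
      exact (mul_eq_zero.mp this).resolve_right (mul_ne_zero h2 hp)
    apply Subtype.ext
    simp [ha, hb, hc]
  have hND' := nd_orth hQ hND
  have hdim := finrank_orth hQ L
  have hpos : 0 < finrank F (orth Q L) := by omega
  obtain ⟨⟨r, hr⟩, hr0⟩ := (Module.finrank_pos_iff_exists_ne_zero).mp hpos
  have : ∃ s : orth Q L, Q s ≠ 0 := by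
    by_contra hcon
    push Not at hcon
    apply hr0
    apply hND'
    intro y
    have k1 := hcon (⟨r, hr⟩ + y)
    rw [Submodule.coe_add, Q_add, hcon ⟨r, hr⟩, hcon y] at k1
    rw [polar_restrict]
    linear_combination k1
  obtain ⟨s, hs⟩ := this
  refine ⟨s, ?_, ?_, ?_, hs⟩
  · rw [p_comm]; exact s.2 e heL
  · rw [p_comm]; exact s.2 f hfL
  · rw [p_comm]; exact s.2 p hpL

theorem prop_of_sing [Finite F] [FiniteDimensional F V] (hQ : ND Q) (h4 : finrank F V = 4) (h2 : (2 : F) ≠ 0)
    (Q₁ : QuadraticForm F V) (h : ∀ x, Q x = 0 → Q₁ x = 0) : ∃ l : F, ∀ x, Q₁ x = l * Q x := by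
  classical
  obtain ⟨e, -, he0, he⟩ := exists_sing Q (U := ⊤) (by rw [finrank_top]; omega)
  obtain ⟨f, hf, hef⟩ := exists_partner hQ he0 he
  have hfe : polar Q f e = 1 := by rw [p_comm]; exact hef
  have he1 := h e he
  have hf1 := h f hf
  -- the basic relation
  have key : ∀ p, polar Q p e = 0 → polar Q p f = 0 →
      Q₁ p = Q p * polar Q₁ e f ∧ polar Q₁ e p = Q p * polar Q₁ f p := by
    intro p hpe hpf
    have hs : ∀ p, polar Q p e = 0 → polar Q p f = 0 → Q₁ p - Q p * polar Q₁ e f + polar Q₁ e p - Q p * polar Q₁ f p = 0 := by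
      intro p hpe hpf
      have k1 := h (e + (-(Q p)) • f + p) (by
        rw [Q_add, Q_add, Q_smul, p_add, p_smul, p_smul', he, hf, hef, p_comm Q e p, p_comm Q f p, hpe, hpf]
        ring)
      rw [Q_add, Q_add, Q_smul, p_add, p_smul, p_smul', he1, hf1] at k1
      linear_combination k1
    have k1 := hs p hpe hpf
    have k2 := hs (-p) (by rw [p_neg, hpe, neg_zero]) (by rw [p_neg, hpf, neg_zero])
    rw [Q_neg, Q_neg, p_neg', p_neg'] at k2
    constructor
    · have : (2 : F) * (Q₁ p - Q p * polar Q₁ e f) = 0 := by linear_combination k1 + k2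
      exact sub_eq_zero.mp ((mul_eq_zero.mp this).resolve_left h2)
    · have : (2 : F) * (polar Q₁ e p - Q p * polar Q₁ f p) = 0 := by linear_combination k1 - k2
      exact sub_eq_zero.mp ((mul_eq_zero.mp this).resolve_left h2)
  -- the functional vanishes on anisotropic vectors
  have hm : ∀ p, polar Q p e = 0 → polar Q p f = 0 → Q p ≠ 0 → polar Q₁ f p = 0 := by
    intro p hpe hpf hp
    obtain ⟨r, hre, hrf, hrp, hr⟩ := exists_perp hQ (by omega) h2 he hf hef hpe hpf hp
    have k1 := (key p hpe hpf).2
    have k2 := (key r hre hrf).2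
    have k3 := (key (p + r) (by rw [p_add, hpe, hre, add_zero]) (by rw [p_add, hpf, hrf, add_zero])).2
    have k4 := (key (p - r) (by rw [p_sub, hpe, hre, sub_zero]) (by rw [p_sub, hpf, hrf, sub_zero])).2
    rw [Q_add, p_add', p_add', p_comm Q p r, hrp] at k3
    rw [Q_sub, p_sub', p_sub', p_comm Q p r, hrp] at k4
    have : (2 * Q r) * polar Q₁ f p = 0 := by
      linear_combination 2 * k1 - k3 - k4
    exact (mul_eq_zero.mp this).resolve_left (mul_ne_zero h2 hr)
  have hm0 : ∀ p, polar Q p e = 0 → polar Q p f = 0 → polar Q₁ f p = 0 := by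
    intro p hpe hpf
    by_cases hp : Q p = 0
    · by_cases hp0 : p = 0
      · rw [hp0, p_zero']
      · obtain ⟨y, hy⟩ : ∃ y, polar Q p y ≠ 0 := by
          by_contra hcon
          push Not at hcon
          exact hp0 (hQ p hcon)
        -- project y to the complement
        set q := y - polar Q y f • e - polar Q y e • f with hq
        have hqe : polar Q q e = 0 := by
          rw [hq, p_sub, p_sub, p_smul, p_smul, p_self, he, hfe]; ring
        have hqf : polar Q q f = 0 := by
          rw [hq, p_sub, p_sub, p_smul, p_smul, p_self, hf, hef]; ring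
        have hqp : polar Q q p ≠ 0 := by
          rw [hq, p_sub, p_sub, p_smul, p_smul, p_comm Q e p, p_comm Q f p, hpe, hpf, p_comm Q y p]
          simpa using hy
        set c := polar Q q p with hc
        have e1 : polar Q₁ f (q + ((c - Q q) / c) • p) = 0 := by
          apply hm
          · rw [p_add, p_smul, hqe, hpe]; ring
          · rw [p_add, p_smul, hqf, hpf]; ring
          · rw [Q_add, Q_smul, p_smul', hp, ← hc]
            have : Q q + (c - Q q) / c * ((c - Q q) / c) * 0 + (c - Q q) / c * c = c := by field_simp; ring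
            rw [this]; exact hqp
        have e2 : polar Q₁ f (q + ((2 * c - Q q) / c) • p) = 0 := by
          apply hm
          · rw [p_add, p_smul, hqe, hpe]; ring
          · rw [p_add, p_smul, hqf, hpf]; ring
          · rw [Q_add, Q_smul, p_smul', hp, ← hc]
            have : Q q + (2 * c - Q q) / c * ((2 * c - Q q) / c) * 0 + (2 * c - Q q) / c * c = 2 * c := by field_simp; ring
            rw [this]; exact mul_ne_zero h2 hqp
        rw [p_add', p_smul'] at e1 e2
        have e3 : ((2 * c - Q q) / c - (c - Q q) / c) * polar Q₁ f p = 0 := by linear_combination e2 - e1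
        have e4 : (2 * c - Q q) / c - (c - Q q) / c = 1 := by field_simp; ring
        rwa [e4, one_mul] at e3
    · exact hm p hpe hpf hp
  refine ⟨polar Q₁ e f, fun x => ?_⟩
  set p := x - polar Q x f • e - polar Q x e • f with hp
  have hpe : polar Q p e = 0 := by
    rw [hp, p_sub, p_sub, p_smul, p_smul, p_self, he, hfe]; ring
  have hpf : polar Q p f = 0 := by
    rw [hp, p_sub, p_sub, p_smul, p_smul, p_self, hf, hef]; ring
  have hx : x = polar Q x f • e + polar Q x e • f + p := by rw [hp]; abel
  have k1 := hm0 p hpe hpf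
  have k2 := key p hpe hpf
  rw [k1, mul_zero] at k2
  have e1 : Q₁ x = polar Q x f * polar Q x e * polar Q₁ e f + Q₁ p := by
    conv_lhs => rw [hx]
    rw [Q_add, Q_add, Q_smul, Q_smul, p_add, p_smul, p_smul, p_smul, p_smul', he1, hf1, k1, k2.2]
    ring
  have e2 : Q x = polar Q x f * polar Q x e + Q p := by
    conv_lhs => rw [hx]
    rw [Q_add, Q_add, Q_smul, Q_smul, p_add, p_smul, p_smul, p_smul, p_smul', he, hf, hef, p_comm Q e p, p_comm Q f p, hpe, hpf]
    ring
  rw [e1, e2, k2.1]
  ring

end H19.PropSing
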