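import Cfsg.Agent.Lib.H34.SpWB

/-!
# S5707: an element of the commutator group outside the normaliser of the Clifford space
-/

set_option autoImplicit false
set_option linter.all false

namespace H19.SpWF

open Matrix Cfsg.Geo H34.SpW

variable {F : Type*} [Field F] {ι : Type} [Fintype ι] [DecidableEq ι]
variable {k t : ℕ} {Q : (ι → F) → F} {f : (Fin k → F) → (Fin k → F) → F} {H : Subgroup (GL ι F)}

theorem exists_unit (h2 : (2 : F) = 0) (hQ : IsNondegenerateQuadraticForm Q) {x y : ι → F} (hx : Q x = 0) (hy : Q y = 0)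
    (hxy : QuadraticMap.polar Q x y = 0) :
    ∃ g : GL ι F, g ∈ Cfsg.isometryGroup F Q ∧ g⁻¹ = g ∧ ∀ w, (g : Matrix ι ι F) *ᵥ w = N Q x y w := by
  have hB := hQ.polar_bilinear
  have hyx : QuadraticMap.polar Q y x = 0 := by rw [QuadraticMap.polar_comm]; exact hxy
  have hxx := B_self hQ h2 x
  have hyy := B_self hQ h2 y
  let L : (ι → F) →ₗ[F] (ι → F) :=
    { toFun := fun w => N Q x y w
      map_add' := by intro v w; unfold N; rw [hB.add_left, hB.add_left]; module
      map_smul' := by intro c v; unfold N; rw [hB.smul_left, hB.smul_left, RingHom.id_apply]; module }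
  have hL : ∀ w, LinearMap.toMatrix' L *ᵥ w = N Q x y w := fun w => by rw [LinearMap.toMatrix'_mulVec]; rfl
  have hNN : ∀ w, N Q x y (N Q x y w) = w := by
    intro w
    have e1 : QuadraticMap.polar Q (N Q x y w) x = QuadraticMap.polar Q w x := by
      unfold N; rw [hB.add_left, hB.add_left, hB.smul_left, hB.smul_left, hxx, hyx]; ring
    have e2 : QuadraticMap.polar Q (N Q x y w) y = QuadraticMap.polar Q w y := by
      unfold N; rw [hB.add_left, hB.add_left, hB.smul_left, hB.smul_left, hxy, hyy]; ring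
    have e3 : N Q x y (N Q x y w) = N Q x y w + (QuadraticMap.polar Q (N Q x y w) x • y + QuadraticMap.polar Q (N Q x y w) y • x) := rfl
    rw [e3, e1, e2]
    unfold N
    rw [add_assoc, two_v h2, add_zero]
  have hMM : LinearMap.toMatrix' L * LinearMap.toMatrix' L = 1 := by
    apply Matrix.ext_of_mulVec_single
    intro i
    rw [← Matrix.mulVec_mulVec, hL, hL, hNN, Matrix.one_mulVec]
  refine ⟨⟨LinearMap.toMatrix' L, LinearMap.toMatrix' L, hMM, hMM⟩, ?_, ?_, hL⟩
  · intro u _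
    change Q (LinearMap.toMatrix' L *ᵥ u) = Q u
    rw [hL]
    exact N_iso hQ h2 hx hy hxy u
  · apply Units.ext
    rfl

theorem adjT (S : TS k t Q f H) (D : KD k t f) (i : Fin t) (v w : Fin t → Fin k → F) :
    QuadraticMap.polar Q (S.T (Function.update v i (D.E *ᵥ v i))) (S.T w) =
      QuadraticMap.polar Q (S.T v) (S.T (Function.update w i (D.E *ᵥ w i))) := by
  rw [S.pol, S.pol]
  congr 1
  apply Finset.prod_congr rfl
  intro j _
  by_cases hj : j = i
  · subst hj
    rw [Function.update_self, Function.update_self, D.adjE]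
  · rw [Function.update_of_ne hj, Function.update_of_ne hj]

theorem comm_mem {a b : GL ι F} (ha : a ∈ Cfsg.isometryGroup F Q) (hb : b ∈ Cfsg.isometryGroup F Q) :
    a * b * a⁻¹ * b⁻¹ ∈ omegaGL Q := by
  have h := Subgroup.commutator_mem_commutator (Subgroup.mem_top (⟨a, ha⟩ : Cfsg.isometryGroup F Q))
    (Subgroup.mem_top (⟨b, hb⟩ : Cfsg.isometryGroup F Q))
  have h' := Subgroup.mem_map_of_mem (Cfsg.isometryGroup F Q).subtype h
  simp only [commutatorElement_def, map_mul, map_inv, Subgroup.subtype_apply] at h'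
  exact h'

theorem exF (h2 : (2 : F) = 0) (hQ : IsNondegenerateQuadraticForm Q) (hf : IsSymplecticForm f) (ht : 2 ≤ t)
    (S : TS k t Q f H) (D : KD k t f) : ∃ u ∈ omegaGL Q, u ∉ NW S D := by
  have hB := hQ.polar_bilinear
  set X := S.T D.x with hX
  set Y := S.T D.y with hY
  set V := S.T D.s with hV
  set Z := S.T D.z with hZ
  have bXY : QuadraticMap.polar Q X Y = 0 := by rw [hX, hY, S.pol, D.hxy, mul_zero]
  have bXV : QuadraticMap.polar Q X V = 0 := by rw [hX, hV, S.pol, D.hxs, mul_zero]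
  have bXZ : QuadraticMap.polar Q X Z = 0 := by rw [hX, hZ, S.pol, D.hxz, mul_zero]
  have bYV : QuadraticMap.polar Q Y V = 0 := by rw [hY, hV, S.pol, D.hys, mul_zero]
  have bYZ : QuadraticMap.polar Q Y Z = 0 := by rw [hY, hZ, S.pol, D.hyz, mul_zero]
  have bVZ : QuadraticMap.polar Q V Z ≠ 0 := by rw [hV, hZ, S.pol]; exact mul_ne_zero S.hc D.hsz
  set m := QuadraticMap.polar Q V Z with hm
  obtain ⟨g1, i1, v1, a1⟩ := exists_unit h2 hQ (S.sing D.y) (S.sing D.z) bYZ
  obtain ⟨g2, i2, v2, a2⟩ := exists_unit h2 hQ (S.sing D.x) (S.sing D.s) bXV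
  have hu : ∀ w, ((g1 * g2 * g1⁻¹ * g2⁻¹ : GL ι F) : Matrix ι ι F) *ᵥ w = N Q X (m • Y) w := by
    intro w
    rw [v1, v2, Units.val_mul, Units.val_mul, Units.val_mul, ← Matrix.mulVec_mulVec, ← Matrix.mulVec_mulVec,
      ← Matrix.mulVec_mulVec, a2, a1, a2, a1]
    exact N_comm hQ h2 bXY bXV bXZ bYV bYZ w
  refine ⟨g1 * g2 * g1⁻¹ * g2⁻¹, ?_, ?_⟩
  · exact comm_mem i1 i2
  intro hN
  generalize g1 * g2 * g1⁻¹ * g2⁻¹ = u at hu hN
  have hA := mem_W S D D.i₀ D.hE
  set A := S.φ D.i₀ D.E with hAdef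
  have hR := Submodule.add_mem _ (hN.1 A hA) hA
  set R := (u : Matrix ι ι F) * A * ((u⁻¹ : GL ι F) : Matrix ι ι F) + A with hRdef
  obtain ⟨c, hc⟩ := W_sq h2 S D hR
  have inv_fix : ∀ v, (u : Matrix ι ι F) *ᵥ v = v → ((u⁻¹ : GL ι F) : Matrix ι ι F) *ᵥ v = v := by
    intro v hv
    conv_lhs => rw [← hv]
    rw [Matrix.mulVec_mulVec, ← Units.val_mul, inv_mul_cancel, Units.val_one, Matrix.one_mulVec]
  have hRv : ∀ v, (u : Matrix ι ι F) *ᵥ v = v → R *ᵥ v = (u : Matrix ι ι F) *ᵥ (A *ᵥ v) + A *ᵥ v := by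
    intro v hv
    rw [hRdef, Matrix.add_mulVec, ← Matrix.mulVec_mulVec, inv_fix v hv, ← Matrix.mulVec_mulVec]
  have symf : ∀ v w, f v w = f w v := by
    intro v w
    rw [hf.skew v w]
    linear_combination (-(f w v)) * h2
  obtain ⟨j, hj⟩ : ∃ j : Fin t, j ≠ D.i₀ := by
    haveI : Nontrivial (Fin t) := Fin.nontrivial_iff_two_le.mpr ht
    exact exists_ne _
  have uX : (u : Matrix ι ι F) *ᵥ X = X := by
    rw [hu]; unfold N
    rw [B_self hQ h2, hB.smul_right, bXY, mul_zero, zero_smul, zero_smul, add_zero, add_zero]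
  have uV : (u : Matrix ι ι F) *ᵥ V = V := by
    rw [hu]; unfold N
    rw [hB.smul_right, QuadraticMap.polar_comm Q V X, QuadraticMap.polar_comm Q V Y, bXV, bYV, mul_zero, zero_smul, zero_smul, add_zero, add_zero]
  have hAX : A *ᵥ X = S.T (Function.update D.x D.i₀ (D.E *ᵥ D.x D.i₀)) := by rw [hAdef, hX, S.hφ]
  have hAV : A *ᵥ V = S.T (Function.update D.s D.i₀ (D.E *ᵥ D.s D.i₀)) := by rw [hAdef, hV, S.hφ]
  have k1 : QuadraticMap.polar Q (A *ᵥ X) X = 0 := by
    rw [hAX, hX, S.pol, Finset.prod_eq_zero (Finset.mem_univ j), mul_zero]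
    rw [Function.update_of_ne hj]
    exact hf.alternating _
  have k2 : QuadraticMap.polar Q (A *ᵥ X) Y ≠ 0 := by
    rw [hAX, hY, S.pol]
    exact mul_ne_zero S.hc D.hxy'
  have k3 : QuadraticMap.polar Q (A *ᵥ V) X = 0 := by
    rw [hAV, hX, adjT S D, QuadraticMap.polar_comm, S.pol, D.hxs', mul_zero]
  have k4 : QuadraticMap.polar Q (A *ᵥ V) Y = 0 := by
    rw [hAV, hY, adjT S D, QuadraticMap.polar_comm, S.pol, D.hys', mul_zero]
  set κ := QuadraticMap.polar Q (A *ᵥ X) (m • Y) with hκ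
  have hκ0 : κ ≠ 0 := by rw [hκ, hB.smul_right]; exact mul_ne_zero bVZ k2
  have RX : R *ᵥ X = κ • X := by
    rw [hRv X uX, hu]; unfold N
    rw [k1, ← hκ, zero_smul, zero_add, add_right_comm, two_v h2, zero_add]
  have RV : R *ᵥ V = 0 := by
    rw [hRv V uV, hu]; unfold N
    rw [hB.smul_right, k3, k4, mul_zero, zero_smul, zero_smul, add_zero, add_zero, two_v h2]
  have z0 : ∀ v, QuadraticMap.polar Q 0 v = 0 := by
    intro v
    have := hB.smul_left 0 0 v
    simpa using this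
  have V0 : V ≠ 0 := by
    intro h
    apply bVZ
    rw [hm, h, z0]
  have X0 : X ≠ 0 := by
    intro h
    apply k2
    rw [h, Matrix.mulVec_zero, z0]
  have c0 : c = 0 := by
    have h1 : (R * R) *ᵥ V = 0 := by rw [← Matrix.mulVec_mulVec, RV, Matrix.mulVec_zero]
    rw [hc, Matrix.smul_mulVec, Matrix.one_mulVec] at h1
    exact (smul_eq_zero.mp h1).resolve_right V0
  have h3 : (R * R) *ᵥ X = (κ * κ) • X := by rw [← Matrix.mulVec_mulVec, RX, Matrix.mulVec_smul, RX, smul_smul]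
  rw [hc, c0, zero_smul, Matrix.zero_mulVec] at h3
  rcases smul_eq_zero.mp h3.symm with h | h
  · exact hκ0 (mul_self_eq_zero.mp h)
  · exact X0 h

end H19.SpWF
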