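import Mathlib
import Cfsg.Agent.Lib.H97.AschHex

/-!
The configuration of 45 points of `3.M10` in `SU_3(5)`: concrete data over the field with 25 elements,
written as pairs `(a, b)` for `a + b s`, `s * s = 2`.
-/

set_option autoImplicit false
set_option linter.unusedSectionVars false
set_option linter.style.longLine false

namespace H19.U35C

def kadd (x y : ℕ × ℕ) : ℕ × ℕ := ((x.1 + y.1) % 5, (x.2 + y.2) % 5)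
def kmul (x y : ℕ × ℕ) : ℕ × ℕ := ((x.1 * y.1 + 2 * (x.2 * y.2)) % 5, (x.1 * y.2 + x.2 * y.1) % 5)
def kneg (x : ℕ × ℕ) : ℕ × ℕ := ((5 - x.1 % 5) % 5, (5 - x.2 % 5) % 5)
def kconj (x : ℕ × ℕ) : ℕ × ℕ := (x.1 % 5, (5 - x.2 % 5) % 5)

abbrev KM := Fin 3 → Fin 3 → ℕ × ℕ
abbrev KV := Fin 3 → ℕ × ℕ

def mm (A B : KM) : KM := fun i j => kadd (kadd (kmul (A i 0) (B 0 j)) (kmul (A i 1) (B 1 j))) (kmul (A i 2) (B 2 j))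
def mv (A : KM) (v : KV) : KV := fun i => kadd (kadd (kmul (A i 0) (v 0)) (kmul (A i 1) (v 1))) (kmul (A i 2) (v 2))
def one : KM := ![![(1, 0), (0, 0), (0, 0)], ![(0, 0), (1, 0), (0, 0)], ![(0, 0), (0, 0), (1, 0)]]
def star (A : KM) : KM := fun i j => kconj (A j i)
def smul (c : ℕ × ℕ) (A : KM) : KM := fun i j => kmul c (A i j)
def kdet (A : KM) : ℕ × ℕ :=
  kadd (kadd (kadd (kmul (kmul (A 0 0) (A 1 1)) (A 2 2)) (kneg (kmul (kmul (A 0 0) (A 1 2)) (A 2 1))))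
    (kadd (kneg (kmul (kmul (A 0 1) (A 1 0)) (A 2 2))) (kmul (kmul (A 0 1) (A 1 2)) (A 2 0))))
    (kadd (kmul (kmul (A 0 2) (A 1 0)) (A 2 1)) (kneg (kmul (kmul (A 0 2) (A 1 1)) (A 2 0))))

/-- powers of ω = 2 + 3 s -/
def om : Fin 3 → ℕ × ℕ := ![(1, 0), (2, 3), (2, 2)]
def XX : Fin 3 → KM := ![![![(1, 0), (0, 0), (0, 0)], ![(0, 0), (1, 0), (0, 0)], ![(0, 0), (0, 0), (1, 0)]],
  ![![(1, 0), (0, 0), (0, 0)], ![(0, 0), (2, 3), (0, 0)], ![(0, 0), (0, 0), (2, 2)]],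
  ![![(1, 0), (0, 0), (0, 0)], ![(0, 0), (2, 2), (0, 0)], ![(0, 0), (0, 0), (2, 3)]]]
def YY : Fin 3 → KM := ![![![(1, 0), (0, 0), (0, 0)], ![(0, 0), (1, 0), (0, 0)], ![(0, 0), (0, 0), (1, 0)]],
  ![![(0, 0), (0, 0), (1, 0)], ![(1, 0), (0, 0), (0, 0)], ![(0, 0), (1, 0), (0, 0)]],
  ![![(0, 0), (1, 0), (0, 0)], ![(0, 0), (0, 0), (1, 0)], ![(1, 0), (0, 0), (0, 0)]]]
def Rm (i j k : Fin 3) : KM := smul (om i) (mm (XX j) (YY k))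

def pts : Fin 45 → Fin 3 → ℕ × ℕ := ![![(0, 0), (1, 0), (3, 2)],
  ![(0, 0), (1, 0), (3, 3)],
  ![(0, 0), (1, 0), (4, 0)],
  ![(1, 0), (0, 0), (3, 2)],
  ![(1, 0), (0, 0), (3, 3)],
  ![(1, 0), (0, 0), (4, 0)],
  ![(1, 0), (0, 1), (0, 1)],
  ![(1, 0), (0, 2), (1, 0)],
  ![(1, 0), (0, 3), (1, 0)],
  ![(1, 0), (0, 4), (0, 4)],
  ![(1, 0), (1, 0), (0, 2)],
  ![(1, 0), (1, 0), (0, 3)],
  ![(1, 0), (1, 0), (2, 0)],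
  ![(1, 0), (1, 0), (4, 0)],
  ![(1, 0), (1, 1), (1, 4)],
  ![(1, 0), (1, 2), (4, 2)],
  ![(1, 0), (1, 3), (4, 3)],
  ![(1, 0), (1, 4), (1, 1)],
  ![(1, 0), (2, 0), (1, 0)],
  ![(1, 0), (2, 1), (2, 3)],
  ![(1, 0), (2, 2), (2, 4)],
  ![(1, 0), (2, 2), (3, 1)],
  ![(1, 0), (2, 2), (3, 2)],
  ![(1, 0), (2, 2), (4, 1)],
  ![(1, 0), (2, 3), (2, 1)],
  ![(1, 0), (2, 3), (3, 3)],
  ![(1, 0), (2, 3), (3, 4)],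
  ![(1, 0), (2, 3), (4, 4)],
  ![(1, 0), (2, 4), (2, 2)],
  ![(1, 0), (3, 0), (3, 0)],
  ![(1, 0), (3, 1), (2, 2)],
  ![(1, 0), (3, 2), (0, 0)],
  ![(1, 0), (3, 2), (2, 2)],
  ![(1, 0), (3, 2), (3, 3)],
  ![(1, 0), (3, 3), (0, 0)],
  ![(1, 0), (3, 3), (2, 3)],
  ![(1, 0), (3, 3), (3, 2)],
  ![(1, 0), (3, 4), (2, 3)],
  ![(1, 0), (4, 0), (0, 0)],
  ![(1, 0), (4, 0), (1, 0)],
  ![(1, 0), (4, 0), (4, 0)],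
  ![(1, 0), (4, 1), (2, 2)],
  ![(1, 0), (4, 2), (1, 2)],
  ![(1, 0), (4, 3), (1, 3)],
  ![(1, 0), (4, 4), (2, 3)]]

def fam : Fin 11 → Fin 3 → Fin 3 → ℕ × ℕ := ![![![(1, 0), (0, 0), (0, 0)], ![(0, 0), (1, 0), (0, 0)], ![(0, 0), (0, 0), (1, 0)]],
  ![![(0, 0), (0, 0), (3, 2)], ![(0, 0), (3, 2), (0, 0)], ![(3, 2), (0, 0), (0, 0)]],
  ![![(0, 2), (0, 2), (0, 2)], ![(0, 2), (3, 4), (2, 4)], ![(0, 2), (2, 4), (3, 4)]],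
  ![![(0, 2), (0, 2), (2, 4)], ![(0, 2), (3, 4), (3, 4)], ![(3, 4), (0, 2), (3, 4)]],
  ![![(0, 2), (0, 2), (3, 4)], ![(0, 2), (3, 4), (0, 2)], ![(2, 4), (3, 4), (3, 4)]],
  ![![(0, 3), (0, 3), (0, 3)], ![(0, 3), (3, 1), (2, 1)], ![(0, 3), (2, 1), (3, 1)]],
  ![![(0, 3), (0, 3), (2, 1)], ![(0, 3), (3, 1), (3, 1)], ![(3, 1), (0, 3), (3, 1)]],
  ![![(0, 3), (0, 3), (3, 1)], ![(0, 3), (3, 1), (0, 3)], ![(2, 1), (3, 1), (3, 1)]],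
  ![![(1, 0), (0, 0), (0, 0)], ![(0, 0), (2, 3), (0, 0)], ![(0, 0), (0, 0), (2, 2)]],
  ![![(0, 0), (0, 0), (1, 0)], ![(1, 0), (0, 0), (0, 0)], ![(0, 0), (1, 0), (0, 0)]],
  ![![(0, 0), (0, 4), (0, 4)], ![(0, 1), (2, 0), (3, 0)], ![(0, 1), (3, 0), (2, 0)]]]

def prm : Fin 11 → Fin 45 → Fin 45 := ![![0, 1, 2, 3, 4, 5, 6, 7, 8, 9, 10, 11, 12, 13, 14, 15, 16, 17, 18, 19, 20, 21, 22, 23, 24, 25, 26, 27, 28, 29, 30, 31, 32, 33, 34, 35, 36, 37, 38, 39, 40, 41, 42, 43, 44],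
  ![34, 31, 38, 4, 3, 5, 11, 7, 8, 10, 9, 6, 29, 40, 27, 21, 26, 23, 18, 30, 43, 15, 33, 17, 42, 36, 16, 14, 37, 12, 19, 1, 35, 22, 0, 32, 25, 28, 2, 39, 13, 44, 24, 20, 41],
  ![5, 38, 2, 34, 3, 1, 9, 42, 16, 6, 15, 43, 33, 17, 13, 7, 11, 39, 36, 20, 24, 26, 27, 25, 28, 41, 30, 32, 19, 40, 37, 4, 44, 18, 31, 23, 12, 21, 0, 14, 29, 35, 10, 8, 22],
  ![38, 1, 4, 5, 0, 34, 41, 22, 23, 32, 40, 29, 6, 9, 42, 12, 36, 11, 21, 18, 25, 27, 26, 24, 44, 37, 35, 19, 33, 30, 17, 3, 43, 10, 31, 7, 16, 39, 2, 20, 28, 15, 14, 13, 8],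
  ![0, 3, 38, 2, 34, 4, 13, 41, 32, 12, 14, 36, 16, 42, 37, 33, 44, 43, 28, 40, 27, 25, 24, 26, 39, 8, 18, 7, 23, 10, 22, 5, 21, 15, 31, 6, 19, 29, 1, 30, 11, 20, 35, 17, 9],
  ![38, 5, 2, 4, 31, 0, 9, 15, 43, 6, 42, 16, 36, 14, 39, 10, 8, 13, 33, 28, 19, 37, 44, 35, 20, 23, 21, 22, 24, 40, 26, 34, 27, 12, 3, 41, 18, 30, 1, 17, 29, 25, 7, 11, 32],
  ![0, 38, 3, 1, 5, 31, 35, 27, 25, 44, 29, 40, 9, 6, 10, 33, 12, 43, 26, 36, 41, 32, 30, 28, 22, 21, 23, 20, 18, 37, 39, 34, 8, 15, 4, 42, 11, 14, 2, 24, 19, 7, 13, 17, 16],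
  ![4, 1, 38, 31, 2, 3, 12, 35, 44, 13, 33, 17, 15, 43, 42, 41, 36, 30, 19, 27, 39, 18, 7, 8, 23, 20, 22, 21, 40, 11, 29, 34, 9, 28, 5, 26, 16, 25, 0, 37, 10, 6, 14, 32, 24],
  ![1, 2, 0, 5, 3, 4, 15, 28, 30, 43, 26, 24, 27, 25, 29, 42, 9, 14, 41, 8, 10, 11, 13, 12, 21, 22, 20, 23, 37, 17, 19, 34, 35, 36, 38, 39, 40, 7, 31, 32, 33, 44, 6, 16, 18],
  ![4, 3, 5, 34, 31, 38, 8, 10, 11, 7, 9, 6, 29, 40, 44, 30, 37, 41, 12, 21, 16, 42, 36, 14, 15, 33, 43, 17, 26, 18, 24, 0, 25, 32, 1, 22, 35, 20, 2, 13, 39, 27, 19, 28, 23],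
  ![13, 39, 2, 24, 28, 14, 6, 23, 44, 9, 41, 27, 33, 0, 5, 25, 32, 38, 36, 31, 34, 21, 43, 7, 3, 15, 37, 11, 4, 40, 30, 19, 16, 12, 20, 42, 18, 26, 17, 1, 29, 10, 35, 22, 8]]

def scl : Fin 11 → Fin 45 → ℕ × ℕ := ![![(1, 0), (1, 0), (1, 0), (1, 0), (1, 0), (1, 0), (1, 0), (1, 0), (1, 0), (1, 0), (1, 0), (1, 0), (1, 0), (1, 0), (1, 0), (1, 0), (1, 0), (1, 0), (1, 0), (1, 0), (1, 0), (1, 0), (1, 0), (1, 0), (1, 0), (1, 0), (1, 0), (1, 0), (1, 0), (1, 0), (1, 0), (1, 0), (1, 0), (1, 0), (1, 0), (1, 0), (1, 0), (1, 0), (1, 0), (1, 0), (1, 0), (1, 0), (1, 0), (1, 0), (1, 0)],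
  ![(2, 2), (1, 0), (2, 3), (2, 2), (1, 0), (2, 3), (4, 3), (3, 2), (3, 2), (1, 2), (3, 1), (2, 4), (1, 4), (2, 3), (4, 4), (0, 4), (4, 2), (2, 0), (3, 2), (3, 3), (2, 1), (3, 4), (2, 2), (1, 1), (0, 2), (1, 0), (0, 3), (3, 0), (4, 0), (4, 1), (4, 0), (2, 2), (4, 0), (1, 0), (1, 0), (3, 3), (2, 2), (3, 3), (2, 3), (3, 2), (2, 3), (4, 0), (1, 3), (0, 1), (3, 3)],
  ![(3, 3), (2, 3), (1, 0), (3, 3), (2, 3), (3, 3), (3, 2), (3, 4), (2, 4), (2, 2), (3, 4), (2, 4), (0, 3), (0, 2), (0, 1), (1, 2), (4, 2), (0, 1), (0, 3), (1, 0), (4, 0), (2, 2), (1, 2), (2, 4), (1, 0), (4, 2), (3, 2), (3, 4), (4, 0), (0, 4), (2, 2), (3, 3), (1, 2), (0, 4), (2, 3), (4, 2), (0, 4), (3, 2), (2, 3), (0, 2), (0, 3), (2, 4), (1, 2), (4, 2), (3, 4)],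
  ![(2, 3), (1, 0), (3, 3), (2, 3), (3, 3), (3, 3), (2, 4), (0, 1), (4, 1), (3, 0), (1, 3), (4, 0), (4, 2), (3, 0), (3, 1), (2, 4), (4, 1), (1, 0), (2, 0), (2, 0), (4, 2), (2, 0), (0, 2), (4, 4), (4, 1), (2, 4), (0, 1), (2, 0), (1, 3), (1, 0), (4, 0), (3, 3), (3, 0), (3, 1), (2, 3), (0, 2), (4, 4), (4, 2), (2, 3), (2, 4), (3, 1), (4, 2), (1, 3), (3, 0), (4, 4)],
  ![(1, 0), (3, 3), (2, 3), (3, 3), (3, 3), (2, 3), (2, 0), (1, 1), (0, 1), (3, 4), (1, 0), (4, 3), (1, 2), (2, 0), (4, 0), (1, 1), (3, 4), (2, 1), (3, 0), (4, 3), (1, 1), (0, 1), (3, 4), (3, 0), (1, 2), (0, 2), (3, 0), (1, 4), (3, 0), (4, 0), (1, 2), (3, 3), (0, 2), (1, 4), (2, 3), (2, 0), (2, 1), (1, 0), (2, 3), (3, 4), (2, 1), (1, 4), (2, 0), (4, 3), (1, 2)],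
  ![(2, 2), (3, 2), (1, 0), (2, 2), (3, 2), (3, 2), (2, 3), (2, 1), (3, 1), (3, 3), (2, 1), (3, 1), (0, 2), (0, 3), (0, 4), (4, 3), (1, 3), (0, 4), (0, 2), (4, 0), (1, 0), (3, 3), (4, 3), (3, 1), (4, 0), (1, 3), (2, 3), (2, 1), (1, 0), (0, 1), (3, 3), (2, 2), (4, 3), (0, 1), (3, 2), (1, 3), (0, 1), (2, 3), (2, 2), (0, 3), (0, 2), (3, 1), (4, 3), (1, 3), (2, 1)],
  ![(1, 0), (2, 2), (3, 2), (3, 2), (2, 2), (3, 2), (3, 0), (4, 4), (0, 4), (2, 1), (4, 0), (1, 2), (4, 3), (3, 0), (1, 0), (4, 4), (2, 1), (3, 4), (2, 0), (1, 2), (4, 4), (0, 4), (2, 1), (2, 0), (4, 3), (0, 3), (2, 0), (4, 1), (2, 0), (1, 0), (4, 3), (2, 2), (0, 3), (4, 1), (3, 2), (3, 0), (3, 4), (4, 0), (2, 2), (2, 1), (3, 4), (4, 1), (3, 0), (1, 2), (4, 3)],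
  ![(3, 2), (1, 0), (2, 2), (3, 2), (3, 2), (2, 2), (3, 1), (0, 4), (1, 4), (2, 0), (4, 2), (1, 0), (1, 3), (2, 0), (2, 4), (3, 1), (1, 4), (4, 0), (3, 0), (3, 0), (1, 3), (3, 0), (0, 3), (1, 1), (1, 4), (3, 1), (0, 4), (3, 0), (4, 2), (4, 0), (1, 0), (2, 2), (2, 0), (2, 4), (3, 2), (0, 3), (1, 1), (1, 3), (2, 2), (3, 1), (2, 4), (1, 3), (4, 2), (2, 0), (1, 1)],
  ![(2, 3), (2, 3), (2, 3), (1, 0), (1, 0), (1, 0), (1, 0), (1, 0), (1, 0), (1, 0), (1, 0), (1, 0), (1, 0), (1, 0), (1, 0), (1, 0), (1, 0), (1, 0), (1, 0), (1, 0), (1, 0), (1, 0), (1, 0), (1, 0), (1, 0), (1, 0), (1, 0), (1, 0), (1, 0), (1, 0), (1, 0), (1, 0), (1, 0), (1, 0), (1, 0), (1, 0), (1, 0), (1, 0), (1, 0), (1, 0), (1, 0), (1, 0), (1, 0), (1, 0), (1, 0)],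
  ![(3, 2), (3, 3), (4, 0), (3, 2), (3, 3), (4, 0), (0, 1), (1, 0), (1, 0), (0, 4), (0, 2), (0, 3), (2, 0), (4, 0), (1, 4), (4, 2), (4, 3), (1, 1), (1, 0), (2, 3), (2, 4), (3, 1), (3, 2), (4, 1), (2, 1), (3, 3), (3, 4), (4, 4), (2, 2), (3, 0), (2, 2), (1, 0), (2, 2), (3, 3), (1, 0), (2, 3), (3, 2), (2, 3), (1, 0), (1, 0), (4, 0), (2, 2), (1, 2), (1, 3), (2, 3)],
  ![(1, 1), (4, 1), (4, 0), (1, 2), (4, 2), (0, 1), (1, 0), (1, 4), (4, 4), (4, 0), (1, 4), (4, 4), (0, 2), (4, 1), (0, 3), (2, 0), (3, 0), (0, 3), (0, 2), (2, 1), (3, 1), (4, 0), (2, 0), (4, 4), (2, 1), (3, 0), (1, 0), (1, 4), (3, 1), (0, 4), (4, 0), (1, 2), (2, 0), (0, 4), (4, 2), (3, 0), (0, 4), (1, 0), (0, 1), (1, 1), (0, 2), (4, 4), (2, 0), (3, 0), (1, 4)]]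

/-- reduced entries -/
def Red (x : ℕ × ℕ) : Prop := x.1 < 5 ∧ x.2 < 5
instance (x : ℕ × ℕ) : Decidable (Red x) := by unfold Red; infer_instance

theorem fam_unit : ∀ n : Fin 11, mm (fam n) (star (fam n)) = one ∧ mm (star (fam n)) (fam n) = one ∧
    kdet (fam n) = (1, 0) := by decide +kernel

theorem fam_pres : ∀ n : Fin 11, ∀ m : Fin 45, ∀ i : Fin 3,
    mv (fam n) (pts m) i = kmul (scl n m) (pts (prm n m) i) := by decide +kernel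

theorem scl_inv : ∀ n : Fin 11, ∀ m : Fin 45, ∃ a b : Fin 5, kmul (scl n m) (a.1, b.1) = (1, 0) := by decide +kernel

theorem rm_inj : ∀ i j k i' j' k' : Fin 3, Rm i j k = Rm i' j' k' → i = i' ∧ j = j' ∧ k = k' := by decide +kernel

theorem rm_unit : ∀ i j k : Fin 3, mm (Rm i j k) (star (Rm i j k)) = one ∧ mm (star (Rm i j k)) (Rm i j k) = one ∧
    kdet (Rm i j k) = (1, 0) := by decide +kernel

theorem rm_red : ∀ i j k a b : Fin 3, Red (Rm i j k a b) := by decide +kernel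

theorem hit : ∀ i j k : Fin 3, (j ≠ 0 ∨ k ≠ 0) → ∃ n : Fin 8, ∃ m : Fin 3,
    mm (mm (fam (n.castLE (by norm_num))) (YY m)) (XX 1) = mm (Rm i j k) (mm (fam (n.castLE (by norm_num))) (YY m)) := by
  decide +kernel

theorem norm_X : ∀ n : Fin 8, ∃ i j k : Fin 3,
    mm (fam (n.castLE (by norm_num))) (XX 1) = mm (Rm i j k) (fam (n.castLE (by norm_num))) := by decide +kernel

theorem norm_Y : ∀ n : Fin 8, ∃ i j k : Fin 3,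
    mm (fam (n.castLE (by norm_num))) (YY 1) = mm (Rm i j k) (fam (n.castLE (by norm_num))) := by decide +kernel

theorem t_not : ∀ i j k : Fin 3, mm (fam 10) (XX 1) ≠ mm (Rm i j k) (fam 10) := by decide +kernel

def BB : KM := ![![(4, 0), (0, 0), (0, 0)], ![(0, 0), (4, 0), (0, 0)], ![(0, 0), (0, 0), (1, 0)]]

theorem bb_unit : mm BB (star BB) = one ∧ mm (star BB) BB = one ∧ kdet BB = (1, 0) := by decide +kernel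

theorem bb_move : ∃ m0 : Fin 45, ∀ m : Fin 45, ∃ i j : Fin 3,
    kmul (mv BB (pts m0) i) (pts m j) ≠ kmul (mv BB (pts m0) j) (pts m i) := by decide +kernel

theorem pts_ne : ∀ m : Fin 45, ∃ i : Fin 3, pts m i ≠ (0, 0) := by decide +kernel

end H19.U35C
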